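import Groth.Prelude.Def_QuotSh
import Mathlib.AlgebraicGeometry.Sites.Fpqc
import Mathlib.CategoryTheory.Sites.SubcanonicalOver
import Mathlib.CategoryTheory.Limits.Shapes.Pullback.IsPullback.Basic

/-! Gluing morphisms out of a scheme along the pullback of a covering sieve. -/

universe u

open CategoryTheory CategoryTheory.Limits AlgebraicGeometry Opposite

set_option linter.style.haveILetI false
set_option linter.unusedSectionVars false
set_option backward.isDefEq.respectTransparency false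
set_option backward.isDefEq.respectTransparency.types false

namespace Groth.Agent.Quot16

variable {S : Scheme.{u}}

theorem subcanonical_J {K : Precoverage Scheme.{u}} (hK : K ≤ Scheme.fpqcPrecoverage) :
    (QuotSh.J K S).Subcanonical :=
  haveI : K.toGrothendieck.Subcanonical :=
    .of_le (Precoverage.toGrothendieck_mono hK : K.toGrothendieck ≤ Scheme.fpqcTopology)
  inferInstance

/-- morphisms into `Y` glue along the sieve `R` pulled back to any `P` over `U` -/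
def Glues {U : Over S} (R : Sieve U) : Prop :=
  ∀ (P : Over S) (p : P ⟶ U) (Y : Over S), Presieve.IsSheafFor (yoneda.obj Y) (R.pullback p).arrows

theorem glues_of_mem {K : Precoverage Scheme.{u}} (hK : K ≤ Scheme.fpqcPrecoverage) {U : Over S}
    {R : Sieve U} (hR : R ∈ QuotSh.J K S U) : Glues R := fun P p Y => by
  haveI := subcanonical_J (S := S) hK
  exact GrothendieckTopology.Subcanonical.isSheaf_of_isRepresentable (J := QuotSh.J K S)
    (yoneda.obj Y) _ ((QuotSh.J K S).pullback_stable p hR)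

/-- the index category of a sieve -/
abbrev Ix {U : Over S} (R : Sieve U) := R.arrows.category

/-- a family cartesian over a sieve on `U` -/
structure CartFam {U : Over S} (R : Sieve U) (P : Over S) (p : P ⟶ U) where
  /-- the members -/
  Q : Ix R → Over S
  /-- projections -/
  π : ∀ c, Q c ⟶ c.obj.left
  /-- transition maps -/
  tr : ∀ {a b : Ix R}, (a ⟶ b) → (Q a ⟶ Q b)
  tr_π : ∀ {a b : Ix R} (g : a ⟶ b), tr g ≫ π b = π a ≫ g.hom.left
  /-- maps to the glued object -/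
  q : ∀ c, Q c ⟶ P
  nat : ∀ {a b : Ix R} (g : a ⟶ b), tr g ≫ q b = q a
  sq : ∀ c, IsPullback (q c) (π c) p c.obj.hom

namespace CartFam

variable {U : Over S} {R : Sieve U} {P : Over S} {p : P ⟶ U} (𝒬 : CartFam R P p)

theorem desc_ext (hR : Glues R) {Y : Over S} {h h' : P ⟶ Y} (e : ∀ c, 𝒬.q c ≫ h = 𝒬.q c ≫ h') :
    h = h' := by
  refine (hR P p Y).isSeparatedFor.ext fun Z z hz => ?_
  show z ≫ h = z ≫ h'
  let c : Ix R := ⟨Over.mk (z ≫ p), hz⟩
  have hσ : z ≫ p = 𝟙 Z ≫ c.obj.hom := (Category.id_comp _).symm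
  rw [← (𝒬.sq c).lift_fst z (𝟙 Z) hσ, Category.assoc, Category.assoc, e]

theorem exists_desc (hR : Glues R) {Y : Over S} (ψ : ∀ c, 𝒬.Q c ⟶ Y)
    (hψ : ∀ {a b : Ix R} (g : a ⟶ b), 𝒬.tr g ≫ ψ b = ψ a) : ∃ h : P ⟶ Y, ∀ c, 𝒬.q c ≫ h = ψ c := by
  let x : Presieve.FamilyOfElements (yoneda.obj Y) (R.pullback p).arrows := fun Z z hz =>
    (𝒬.sq ⟨Over.mk (z ≫ p), hz⟩).lift z (𝟙 Z) (Category.id_comp _).symm ≫ ψ _
  have hx : x.Compatible := by
    rw [Presieve.compatible_iff_sieveCompatible]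
    intro Z Z' z g hz
    show (𝒬.sq ⟨Over.mk ((g ≫ z) ≫ p), _⟩).lift (g ≫ z) (𝟙 Z') _ ≫ ψ _ =
      g ≫ (𝒬.sq ⟨Over.mk (z ≫ p), hz⟩).lift z (𝟙 Z) _ ≫ ψ _
    let m : (⟨Over.mk ((g ≫ z) ≫ p), (R.pullback p).downward_closed hz g⟩ : Ix R) ⟶
        ⟨Over.mk (z ≫ p), hz⟩ := ObjectProperty.homMk (Over.homMk g (Category.assoc _ _ _).symm)
    rw [← hψ m, ← Category.assoc, ← Category.assoc g]
    congr 1
    apply (𝒬.sq _).hom_ext
    · rw [Category.assoc, 𝒬.nat, IsPullback.lift_fst, Category.assoc, IsPullback.lift_fst]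
    · rw [Category.assoc, 𝒬.tr_π, IsPullback.lift_snd_assoc]
      refine (Category.id_comp _).trans ?_
      exact ((Category.assoc g _ _).trans ((congrArg (fun q => g ≫ q) ((𝒬.sq _).lift_snd _ _ _)).trans
        (Category.comp_id g))).symm
  obtain ⟨h, hh, -⟩ := hR P p Y x hx
  refine ⟨h, fun c => ?_⟩
  have hm : R (𝒬.q c ≫ p) := by rw [(𝒬.sq c).w]; exact R.downward_closed c.property _
  refine (hh (𝒬.q c) hm).trans ?_
  show (𝒬.sq ⟨Over.mk (𝒬.q c ≫ p), hm⟩).lift (𝒬.q c) (𝟙 _) _ ≫ ψ _ = ψ c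
  let m : (⟨Over.mk (𝒬.q c ≫ p), hm⟩ : Ix R) ⟶ c :=
    ObjectProperty.homMk (Over.homMk (𝒬.π c) (𝒬.sq c).w.symm)
  rw [← hψ m, ← Category.assoc]
  convert Category.id_comp (ψ c) using 2
  apply (𝒬.sq c).hom_ext
  · rw [Category.assoc, 𝒬.nat, IsPullback.lift_fst, Category.id_comp]
  · rw [Category.assoc, 𝒬.tr_π, IsPullback.lift_snd_assoc, Category.id_comp]
    exact Category.id_comp (𝒬.π c)

/-- pullback of a cartesian family along a morphism of total spaces -/
noncomputable def restrict {P' : Over S} (f : P' ⟶ P) : CartFam R P' (f ≫ p) where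
  Q c := pullback f (𝒬.q c)
  π c := pullback.snd f (𝒬.q c) ≫ 𝒬.π c
  tr {a b} g := pullback.lift (pullback.fst f (𝒬.q a)) (pullback.snd f (𝒬.q a) ≫ 𝒬.tr g)
    (by rw [Category.assoc, 𝒬.nat, pullback.condition])
  tr_π g := by rw [pullback.lift_snd_assoc, Category.assoc, Category.assoc, 𝒬.tr_π]
  q c := pullback.fst f (𝒬.q c)
  nat g := pullback.lift_fst _ _ _
  sq c := (IsPullback.of_hasPullback f (𝒬.q c)).paste_vert (𝒬.sq c)

/-- an inverse glues from inverses on the members -/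
theorem isIso_of_members (hR : Glues R) {P' : Over S} {p' : P' ⟶ U} (𝒬' : CartFam R P' p') (f : P ⟶ P')
    (e : ∀ c, 𝒬.Q c ≅ 𝒬'.Q c) (he : ∀ c, (e c).hom ≫ 𝒬'.q c = 𝒬.q c ≫ f)
    (he' : ∀ {a b : Ix R} (g : a ⟶ b), 𝒬.tr g ≫ (e b).hom = (e a).hom ≫ 𝒬'.tr g) : IsIso f := by
  obtain ⟨h, hh⟩ := 𝒬'.exists_desc hR (fun c => (e c).inv ≫ 𝒬.q c) (fun {a b} g => by
    rw [← cancel_epi (e a).hom, Iso.hom_inv_id_assoc, ← Category.assoc, ← he', Category.assoc,
      Iso.hom_inv_id_assoc, 𝒬.nat])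
  refine ⟨h, 𝒬.desc_ext hR fun c => ?_, 𝒬'.desc_ext hR fun c => ?_⟩
  · rw [← Category.assoc, ← he c, Category.assoc, hh, Iso.hom_inv_id_assoc, Category.comp_id]
  · rw [← Category.assoc, hh, Category.assoc, ← he c, Iso.inv_hom_id_assoc, Category.comp_id]

end CartFam

end Groth.Agent.Quot16
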