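import Groth.Agent.Lib.Quot16.Chart

/-! The action square of `X ⟶ [X/G]` for any precoverage. -/

universe u

open CategoryTheory CategoryTheory.Limits MonoidalCategory CartesianMonoidalCategory MonObj GrpObj
  AlgebraicGeometry

set_option linter.style.haveILetI false
set_option linter.unusedSectionVars false
set_option backward.isDefEq.respectTransparency false
set_option backward.isDefEq.respectTransparency.types false

namespace Groth.Agent.Quot16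

theorem exists_isTwoCartOver_act {S : Scheme.{u}} {K : Precoverage Scheme.{u}} [K.HasIsos]
    [K.IsStableUnderBaseChange] (G : Over S) [GrpObj G] (X : Over S) (aX : AlgGrp.Action G X) :
    ∃ e : BasedFunctor.comp (AlgSt.ofSpMap ((AlgSp.yon S).map aX.act)) (AlgSt.quotMap K G aX) ≅
        BasedFunctor.comp (AlgSt.ofSpMap ((AlgSp.yon S).map (CartesianMonoidalCategory.snd G X)))
          (AlgSt.quotMap K G aX),
      FibCat.IsTwoCartOver (AlgSt.ofSpMap ((AlgSp.yon S).map aX.act))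
        (AlgSt.ofSpMap ((AlgSp.yon S).map (CartesianMonoidalCategory.snd G X))) e := by
  classical
  let a := AlgSt.ofSpMap ((AlgSp.yon S).map aX.act)
  let b := AlgSt.ofSpMap ((AlgSp.yon S).map (CartesianMonoidalCategory.snd G X))
  let Q := AlgSt.quotMap K G aX
  let σ : ∀ z : (AlgSt.ofSch (G ⊗ X)).obj, z.base ⟶ G ⊗ z.base :=
    fun z => CartesianMonoidalCategory.lift (z.sec.down ≫ CartesianMonoidalCategory.fst G X) (𝟙 z.base)
  have hσ : ∀ z, σ z ≫ (G ◁ (z.sec.down ≫ CartesianMonoidalCategory.snd G X)) ≫ aX.act =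
      z.sec.down ≫ aX.act := fun z => by
    rw [← Category.assoc]
    congr 1
    apply CartesianMonoidalCategory.hom_ext <;> simp [σ]
  let m : ∀ z : (AlgSt.ofSch (G ⊗ X)).obj, Q.obj (a.obj z) ⟶ Q.obj (b.obj z) := fun z =>
    Groth.Agent.Quot16.homOfPt (Q.obj (b.obj z)) (σ z) (hσ z)
  have mb : ∀ z, (m z).base = 𝟙 z.base := fun z => CartesianMonoidalCategory.lift_snd _ _
  have ms : ∀ z, Groth.Agent.Quot16.sec (m z) = σ z := fun z =>
    Groth.Agent.Quot16.sec_homOfPt (Q.obj (b.obj z)) (σ z) (hσ z)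
  haveI : ∀ z, IsIso (m z) := fun z => by
    haveI : IsIso (m z).base := by rw [mb]; exact IsIso.id _
    exact Groth.Agent.Quot16.isIso_of_isIso_base (m z)
  have nat : ∀ {z z' : (AlgSt.ofSch (G ⊗ X)).obj} (g : z' ⟶ z),
      Q.map (a.map g) ≫ m z = m z' ≫ Q.map (b.map g) := fun {z z'} g => by
    have hg : g.hom ≫ z.sec.down = z'.sec.down := congrArg ULift.down g.map_sec
    apply Groth.Agent.Quot16.hom_ext_sec (x := z'.sec.down ≫ aX.act) (A := Q.obj (b.obj z))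
    refine Eq.trans ?_ (Groth.Agent.Quot16.sec_comp (m z') (Q.map (b.map g))).symm
    rw [ms]
    refine Eq.trans (Groth.Agent.Quot16.sec_precomp (A := Q.obj (b.obj z)) (x := z.sec.down ≫ aX.act)
      (x' := z'.sec.down ≫ aX.act) (Over.homMk g.hom (by
        show g.hom ≫ z.sec.down ≫ aX.act = z'.sec.down ≫ aX.act
        rw [← Category.assoc, hg])) (m z)) ?_
    rw [ms]
    show g.hom ≫ σ z = σ z' ≫ (G ◁ g.hom)
    apply CartesianMonoidalCategory.hom_ext <;> simp [σ, ← hg]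
  let e : BasedFunctor.comp a Q ≅ BasedFunctor.comp b Q :=
    BasedNatIso.mkNatIso (NatIso.ofComponents (fun z => asIso (m z)) (fun g => nat g)) (fun z => by
      show (AlgSt.QuotSt K G aX).p.IsHomLift (𝟙 z.base) (m z)
      rw [← mb z]
      exact IsHomLift.map (AlgSt.QuotSt K G aX).p (m z))
  refine ⟨e, ?_⟩
  let E := FibCat.fpLift a b e
  haveI : E.toFunctor.Faithful := ⟨fun {z z' g g'} h => by
    have h1 := congrArg (fun q => q.hom.fst.hom) h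
    exact Stk.EltObj.hom_ext h1⟩
  haveI : E.toFunctor.Full := ⟨fun {z z'} θ => by
    have hg2 : θ.hom.snd.hom = θ.hom.fst.hom := by
      haveI := FibCat.fp_isHomLift_snd Q Q θ
      have := IsHomLift.fac' (AlgSt.ofSch X).p ((FibCat.fp Q Q).p.map θ) θ.hom.snd
      simp at this
      exact this
    obtain ⟨g, hg⟩ : ∃ g : z.base ⟶ z'.base, g = θ.hom.fst.hom := ⟨_, rfl⟩
    have w1 : g ≫ z'.sec.down ≫ aX.act = z.sec.down ≫ aX.act :=
      hg ▸ congrArg ULift.down θ.hom.fst.map_sec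
    have w2 : g ≫ z'.sec.down ≫ CartesianMonoidalCategory.snd G X =
        z.sec.down ≫ CartesianMonoidalCategory.snd G X :=
      hg ▸ hg2 ▸ congrArg ULift.down θ.hom.snd.map_sec
    have hw : Q.map θ.hom.fst ≫ m z' = m z ≫ Q.map θ.hom.snd := Groth.Agent.FC16.fp_w θ
    have hs := congrArg (Groth.Agent.Quot16.sec (x := z.sec.down ≫ aX.act) (A := Q.obj (b.obj z'))) hw
    have e1 := Groth.Agent.Quot16.sec_precomp (A := Q.obj (b.obj z')) (x := z'.sec.down ≫ aX.act)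
      (x' := z.sec.down ≫ aX.act) (Over.homMk g w1) (m z')
    have e2 := Groth.Agent.Quot16.sec_comp (m z) (Q.map θ.hom.snd)
    rw [ms] at e1 e2
    have hs' : g ≫ σ z' = σ z ≫ (G ◁ g) := by
      refine Eq.trans ?_ ((hs.trans e2).trans ?_)
      · refine e1.symm.trans ?_
        congr 2
        exact AlgSt.QuotObj.hom_ext hg (congrArg (fun q => G ◁ q) hg)
      · show σ z ≫ (G ◁ θ.hom.snd.hom) = σ z ≫ (G ◁ g)
        rw [hg, hg2]
    have hp : g ≫ z'.sec.down = z.sec.down := by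
      apply CartesianMonoidalCategory.hom_ext
      · have := congrArg (fun q => q ≫ CartesianMonoidalCategory.fst G z'.base) hs'
        simpa [σ] using this
      · simpa using w2
    refine ⟨⟨g, congrArg ULift.up hp⟩, ?_⟩
    exact Groth.Agent.FC16.fp_hom_ext (Stk.EltObj.hom_ext hg) (Stk.EltObj.hom_ext (hg.trans hg2.symm))⟩
  refine Groth.Agent.FC16.isEquivOver_of E fun z => ?_
  obtain ⟨⟨⟨T, ⟨x⟩⟩, ⟨T', ⟨x'⟩⟩, j⟩, hj⟩ := z
  have hT : T' = T := (FibCat.fpSnd Q Q).w_obj ⟨⟨⟨T, ⟨x⟩⟩, ⟨T', ⟨x'⟩⟩, j⟩, hj⟩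
  subst hT
  haveI : (AlgSt.QuotSt K G aX).p.IsHomLift (𝟙 T') j.hom := hj
  have jb : j.hom.base = 𝟙 T' := Groth.Agent.Quot16.base_eq_of_lift_self (A := Q.obj ⟨T', ⟨x⟩⟩) (B := Q.obj ⟨T', ⟨x'⟩⟩) (𝟙 T') j.hom
  obtain ⟨s, hs⟩ : ∃ s : T' ⟶ G ⊗ T', s = Groth.Agent.Quot16.sec (x := x) (A := Q.obj ⟨T', ⟨x'⟩⟩) j.hom := ⟨_, rfl⟩
  have s1 : s ≫ CartesianMonoidalCategory.snd G T' = 𝟙 T' :=
    hs ▸ (Groth.Agent.Quot16.sec_π (x := x) (A := Q.obj ⟨T', ⟨x'⟩⟩) j.hom).trans jb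
  have s2 : s ≫ (G ◁ x') ≫ aX.act = x :=
    hs ▸ Groth.Agent.Quot16.sec_φ (x := x) (A := Q.obj ⟨T', ⟨x'⟩⟩) j.hom
  let p : T' ⟶ G ⊗ X := CartesianMonoidalCategory.lift (s ≫ CartesianMonoidalCategory.fst G T') x'
  have sp : s = CartesianMonoidalCategory.lift (p ≫ CartesianMonoidalCategory.fst G X) (𝟙 T') := by
    apply CartesianMonoidalCategory.hom_ext <;> simp [p, s1]
  have pa : p ≫ aX.act = x := by
    rw [← s2, ← Category.assoc s]
    congr 1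
    apply CartesianMonoidalCategory.hom_ext <;> simp [p, reassoc_of% s1]
  have pb : p ≫ CartesianMonoidalCategory.snd G X = x' := CartesianMonoidalCategory.lift_snd _ _
  let ξ : (AlgSt.ofSch (G ⊗ X)).obj := ⟨T', ⟨p⟩⟩
  let f1 : a.obj ξ ⟶ ⟨T', ⟨x⟩⟩ := ⟨𝟙 T', congrArg ULift.up ((Category.id_comp x).trans pa.symm)⟩
  let f1' : (⟨T', ⟨x⟩⟩ : (AlgSt.ofSch X).obj) ⟶ a.obj ξ :=
    ⟨𝟙 T', congrArg ULift.up ((Category.id_comp (p ≫ aX.act)).trans pa)⟩
  let f2 : b.obj ξ ⟶ ⟨T', ⟨x'⟩⟩ := ⟨𝟙 T', congrArg ULift.up ((Category.id_comp x').trans pb.symm)⟩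
  let f2' : (⟨T', ⟨x'⟩⟩ : (AlgSt.ofSch X).obj) ⟶ b.obj ξ :=
    ⟨𝟙 T', congrArg ULift.up ((Category.id_comp (p ≫ CartesianMonoidalCategory.snd G X)).trans pb)⟩
  let i1 : a.obj ξ ≅ (⟨T', ⟨x⟩⟩ : (AlgSt.ofSch X).obj) :=
    ⟨f1, f1', Stk.EltObj.hom_ext (Category.id_comp _), Stk.EltObj.hom_ext (Category.id_comp _)⟩
  let i2 : b.obj ξ ≅ (⟨T', ⟨x'⟩⟩ : (AlgSt.ofSch X).obj) :=
    ⟨f2, f2', Stk.EltObj.hom_ext (Category.id_comp _), Stk.EltObj.hom_ext (Category.id_comp _)⟩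
  have hw : Q.map i1.hom ≫ j.hom = m ξ ≫ Q.map i2.hom := by
    apply Groth.Agent.Quot16.hom_ext_sec (x := p ≫ aX.act) (A := Q.obj ⟨T', ⟨x'⟩⟩)
    refine Eq.trans ?_ (Groth.Agent.Quot16.sec_comp (m ξ) (Q.map i2.hom)).symm
    rw [ms]
    refine (Groth.Agent.Quot16.sec_precomp (A := Q.obj ⟨T', ⟨x'⟩⟩) (x := x) (x' := p ≫ aX.act)
      (Over.homMk (𝟙 T') ((Category.id_comp x).trans pa.symm)) j.hom).trans ?_
    show 𝟙 T' ≫ Groth.Agent.Quot16.sec (x := x) (A := Q.obj ⟨T', ⟨x'⟩⟩) j.hom = σ ξ ≫ (G ◁ 𝟙 T')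
    rw [← hs, Category.id_comp, MonoidalCategory.whiskerLeft_id, Category.comp_id]
    exact sp
  let z₀ : (FibCat.fp Q Q).obj := ⟨⟨⟨T', ⟨x⟩⟩, ⟨T', ⟨x'⟩⟩, j⟩, hj⟩
  let d : E.obj ξ ≅ z₀ := Groth.Agent.FC16.fpIsoMk (x := E.obj ξ) (y := z₀) i1 i2 hw
  refine ⟨ξ, d, ?_⟩
  haveI : (AlgSt.ofSch X).p.IsHomLift (𝟙 T') d.hom.hom.fst := IsHomLift.map (AlgSt.ofSch X).p i1.hom
  exact Groth.Agent.FC16.isHomLift_of_fst (𝟙 T') d.hom

end Groth.Agent.Quot16
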