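import Groth.Agent.Lib.Quot16.Stack
import Groth.Agent.Lib.Quot16.ActSquare
import Groth.Agent.Lib.AlgSpace.Affine
import Groth.Agent.Lib.StAlg16.LocQ
import Groth.Agent.Lib.StAlg16.AtlasEt

/-! `[X/G]` is an algebraic stack for smooth affine `G`. -/

universe u

open CategoryTheory CategoryTheory.Limits MonoidalCategory CartesianMonoidalCategory MonObj GrpObj
  AlgebraicGeometry

set_option linter.style.haveILetI false
set_option linter.unusedSectionVars false
set_option backward.isDefEq.respectTransparency false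
set_option backward.isDefEq.respectTransparency.types false

namespace Groth.Agent.Quot16

open AlgSt

variable {S : Scheme.{u}} {K : Precoverage Scheme.{u}} {G : Over S} [GrpObj G] {X : Over S}
  {aX : AlgGrp.Action G X}

theorem π_surjective_fpqc (hK : K ≤ Scheme.fpqcPrecoverage) (A : QuotObj K G aX) : Surjective A.π.left := by
  obtain ⟨R, hR, hs⟩ := A.loc
  obtain ⟨J, Z, f, rfl⟩ := R.exists_eq_ofArrows
  have hf : Presieve.ofArrows Z f ∈ Scheme.precoverage @Flat A.base.left :=
    (hK _ hR : Presieve.ofArrows Z f ∈ Scheme.qcPrecoverage A.base.left ∧ _).2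
  rw [Scheme.ofArrows_mem_precoverage_iff] at hf
  refine ⟨fun t => ?_⟩
  obtain ⟨i, z, hz⟩ := hf.1 t
  obtain ⟨s, hs⟩ := hs (f i) ⟨i⟩
  simp only [Over.mk_hom] at hs
  exact ⟨s z, (congrArg (fun q => q z) hs).trans hz⟩

variable [K.HasIsos] [K.IsStableUnderBaseChange]

theorem repWith_chartMap' (P : MorphismProperty (AlgSp.Sp S))
    (hP : ∀ A : QuotObj K G aX, P ((AlgSp.yon S).map A.π)) :
    RepByAlgSpWith P (chartMap K aX) := by
  intro U y
  obtain ⟨A, h, E, hE, hEq⟩ := exists_chart y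
  subst h
  refine ⟨(AlgSp.ofScheme S).obj A.P, BasedFunctor.comp (toOverCat A.P) E, ?_, ?_⟩
  · refine FC16.isEquivOver_comp ?_ hE
    exact ⟨ofOverCat A.P, ⟨Iso.refl _⟩, ⟨Iso.refl _⟩⟩
  · have e : BasedFunctor.comp (BasedFunctor.comp (toOverCat A.P) E)
        (FibCat.fpFst y (chartMap K aX)) =
        BasedFunctor.comp (toOverCat A.P) (overMap A.π) := by
      refine Eq.trans (b := BasedFunctor.comp (toOverCat A.P) (BasedFunctor.comp E
        (FibCat.fpFst y (chartMap K aX)))) rfl ?_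
      rw [hEq, eqToHom_refl, Category.comp_id]
    have e2 := congrArg (fun Φ => spMapOfOver (F := (AlgSp.yon S).obj A.P) Φ) e
    exact e2.symm ▸ ((spMapOfOver_overMap A.π).symm ▸ hP A)

theorem repWith_chartMap_surjective' (hK : K ≤ Scheme.fpqcPrecoverage) :
    RepByAlgSpWith AlgSp.IsSurjectiveMor (chartMap K aX) :=
  repWith_chartMap' _ fun A p => by
    obtain ⟨t, rfl⟩ := (AlgSp.Points.schemeHomeo A.base).surjective p
    obtain ⟨s, rfl⟩ := (π_surjective_fpqc hK A).surj t
    exact ⟨AlgSp.Points.schemeHomeo A.P s, AlgSp.Points.map_yon_map_apply A.π s⟩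

theorem repWith_chartMap_smooth' (hK : K ≤ Scheme.fpqcPrecoverage) [Smooth G.hom] :
    RepByAlgSpWith (AlgSp.LocP @Smooth) (chartMap K aX) :=
  repWith_chartMap' _ fun A => (StAlg16.locP_yon_iff' A.π).2 (π_prop_fpqc hK A (P := @Smooth) ‹_›)

theorem repWith_chartMap_affine (hK : K ≤ Scheme.fpqcPrecoverage) [IsAffineHom G.hom] :
    RepByAlgSpWith AlgSp.IsAffineMor (chartMap K aX) :=
  repWith_chartMap' _ fun A => AlgSpace.isAffineMor_iff_repWith.2
    ((AlgSp.repWith_yon_map_iff @IsAffineHom A.π).2 (π_isAffineHom_fpqc hK A))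

end Groth.Agent.Quot16

namespace Groth.Agent.Quot16

open AlgSt

variable {S : Scheme.{u}} {G : Over S} [GrpObj G] {X : Over S} {aX : AlgGrp.Action G X}

instance : Scheme.etalePrecoverage.{u}.IsStableUnderBaseChange :=
  inferInstanceAs ((Scheme.precoverage @Etale).IsStableUnderBaseChange)

instance : Scheme.etalePrecoverage.{u}.IsStableUnderComposition :=
  inferInstanceAs ((Scheme.precoverage @Etale).IsStableUnderComposition)

theorem etale_le_fpqc : Scheme.etalePrecoverage.{u} ≤ Scheme.fpqcPrecoverage :=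
  (Scheme.precoverage_mono fun _ _ f (_ : Etale f) => ⟨inferInstance, inferInstance⟩ :
    Scheme.etalePrecoverage.{u} ≤ Scheme.fppfPrecoverage).trans Scheme.fppfPrecoverage_le_fpqcPrecoverage

theorem isAlgStack_quotSt_etale [Smooth G.hom] [IsAffineHom G.hom] :
    IsAlgStack Scheme.etalePrecoverage (QuotSt Scheme.etalePrecoverage G aX) := by
  haveI : Precoverage.Small.{u} Scheme.etalePrecoverage.{u} :=
    inferInstanceAs (Precoverage.Small.{u} (Scheme.precoverage @Etale))
  have hK := etale_le_fpqc.{u}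
  refine StAlg16.isAlgStack_etale_of_cover (𝒰 := ofSch X) (u := quotMap _ G aX) ?_ (isStack_quotSt hK) ?_ ?_ ?_
  · exact Stk.isFibGrpd_ofPsh _
  · exact ⟨⟨_, AlgSp.IsAlgSpace.yon_obj X⟩, BasedFunctor.id _, FC16.isEquivOver_id⟩
  · exact StAlg16.with_comp_equiv (a := toOverCat X) (g := chartMap Scheme.etalePrecoverage aX)
      ⟨ofOverCat X, ⟨Iso.refl _⟩, ⟨Iso.refl _⟩⟩ (repWith_chartMap_smooth' hK)
  · exact StAlg16.with_comp_equiv (a := toOverCat X) (g := chartMap Scheme.etalePrecoverage aX)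
      ⟨ofOverCat X, ⟨Iso.refl _⟩, ⟨Iso.refl _⟩⟩ (repWith_chartMap_surjective' hK)

end Groth.Agent.Quot16
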