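import Groth.Agent.Lib.Quot16.Effective

/-! `[X/G]` is a stack for affine `G`. -/

universe u

open CategoryTheory CategoryTheory.Limits MonoidalCategory CartesianMonoidalCategory MonObj GrpObj
  AlgebraicGeometry

set_option linter.style.haveILetI false
set_option linter.unusedSectionVars false
set_option backward.isDefEq.respectTransparency false
set_option backward.isDefEq.respectTransparency.types false

namespace Groth.Agent.Quot16

open AlgSt

variable {S : Scheme.{u}} {K : Precoverage Scheme.{u}} {G : Over S} [GrpObj G] {X : Over S}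
  {aX : AlgGrp.Action G X}

/-- properties of `G` pass to the structure morphism of an fpqc torsor -/
theorem π_prop_fpqc (hK : K ≤ Scheme.fpqcPrecoverage) (A : QuotObj K G aX) {P : MorphismProperty Scheme.{u}}
    [P.IsStableUnderBaseChange] [IsZariskiLocalAtTarget P]
    [P.DescendsAlong (@Surjective ⊓ @Flat ⊓ @QuasiCompact)] (hG : P G.hom) : P A.π.left := by
  obtain ⟨R, hR, hs⟩ := A.loc
  obtain ⟨J, Z, f, rfl⟩ := R.exists_eq_ofArrows
  obtain ⟨hflat, hqc⟩ := GrpQuot.SubDesc.flat_and_isQCCovering f (hK _ hR)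
  refine GrpQuot.SubDesc.descend_family f hflat hqc P A.π.left fun i => ?_
  rw [← pullbackSymmetry_hom_comp_snd]
  exact (P.cancel_left_of_respectsIso _ _).2 (pullback_snd_prop A hG (hs (f i) ⟨i⟩))

theorem π_isAffineHom_fpqc [IsAffineHom G.hom] (hK : K ≤ Scheme.fpqcPrecoverage) (A : QuotObj K G aX) :
    IsAffineHom A.π.left :=
  haveI := FpqcDesc.descendsAlong_isAffineHom.{u}
  π_prop_fpqc hK A (P := @IsAffineHom) ‹_›

theorem isStack_quotSt [K.HasIsos] [K.IsStableUnderBaseChange] [K.IsStableUnderComposition]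
    [Precoverage.Small.{u} K] [IsAffineHom G.hom] (hK : K ≤ Scheme.fpqcPrecoverage) :
    Stk.IsStack (QuotSh.J K S) (QuotSt K G aX) := by
  refine ⟨isFibGrpd, fun U R hR => ?_⟩
  have hR' : Sieve.overEquiv U R ∈ K.toGrothendieck U.left := hR
  rw [Precoverage.mem_toGrothendieck_iff_of_isStableUnderComposition] at hR'
  obtain ⟨R₀, hR₀, hle⟩ := hR'
  rw [Precoverage.mem_iff_exists_zeroHypercover] at hR₀
  obtain ⟨E, rfl⟩ := hR₀
  obtain ⟨J, e, hE⟩ := Precoverage.ZeroHypercover.Small.exists_restrictIndex_mem.{u} E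
  let Z : J → Scheme.{u} := fun i => E.X (e i)
  let f : ∀ i, Z i ⟶ U.left := fun i => E.f (e i)
  have hf : Presieve.ofArrows Z f ∈ K U.left := hE
  have hSR : famSieve f ≤ R := by
    rw [famSieve, Sieve.ofArrows, Sieve.generate_le_iff, Presieve.ofArrows_le_iff]
    intro i
    exact (Sieve.overEquiv_iff R (f i)).1 (hle _ _ ⟨e i⟩)
  have hS : famSieve f ∈ QuotSh.J K S U := by
    show Sieve.overEquiv U (famSieve f) ∈ K.toGrothendieck U.left
    refine GrothendieckTopology.superset_covering _ ?_ (Precoverage.generate_mem_toGrothendieck hf)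
    rw [Sieve.generate_le_iff, Presieve.ofArrows_le_iff]
    intro i
    exact (Sieve.overEquiv_iff _ (f i)).2 (Sieve.ofArrows_mk (mem f) (memHom f) i)
  refine FC16.isStackFor_of_refinement isFibGrpd hSR
    (fun V g _ => isPrestackFor (glues_of_mem hK ((QuotSh.J K S).pullback_stable g hS))) ?_
  refine isStackFor_of isFibGrpd (gluesHom (glues_of_mem hK hS)) fun t => ?_
  refine exists_cocone f t hK hf (glues_of_mem hK hS) fun i => ?_
  haveI := π_isAffineHom_fpqc hK (t.obj (aObj f i))
  exact inferInstanceAs (IsAffineHom ((t.obj (aObj f i)).π.left ≫ (eqToHom (t.w_obj (aObj f i))).left))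

end Groth.Agent.Quot16
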