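import Groth.Agent.Lib.Quot16.Basic
import Groth.Agent.Lib.FpqcDesc.Basic
import Groth.Agent.Lib.GrpQuot.QuotSection
import Mathlib.AlgebraicGeometry.Sites.Fpqc

/-! Properties of the structure morphism of an fppf torsor. -/

universe u

open CategoryTheory CategoryTheory.Limits MonoidalCategory CartesianMonoidalCategory MonObj GrpObj
  AlgebraicGeometry

set_option linter.style.haveILetI false
set_option linter.unusedSectionVars false
set_option backward.isDefEq.respectTransparency false
set_option backward.isDefEq.respectTransparency.types false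

namespace Groth.Agent.Quot16

open AlgSt

lemma mem_fppf_iff {Y : Scheme.{u}} {R : Presieve Y} (hR : R ∈ Scheme.fppfPrecoverage Y) :
    (∀ y : Y, ∃ (Z : Scheme.{u}) (f : Z ⟶ Y), R f ∧ ∃ z, f z = y) ∧
      ∀ ⦃Z : Scheme.{u}⦄ ⦃f : Z ⟶ Y⦄, R f → Flat f ∧ LocallyOfFinitePresentation f := by
  obtain ⟨J, Z, f, rfl⟩ := R.exists_eq_ofArrows
  have hR' : Presieve.ofArrows Z f ∈
      Scheme.precoverage (@Flat ⊓ @LocallyOfFinitePresentation) Y := hR
  rw [Scheme.ofArrows_mem_precoverage_iff] at hR'
  refine ⟨fun y => ?_, ?_⟩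
  · obtain ⟨i, z, hz⟩ := hR'.1 y
    exact ⟨_, f i, ⟨i⟩, z, hz⟩
  · rintro _ _ ⟨i⟩
    exact hR'.2 i

/-- a property of morphisms which descends along fppf covering families -/
theorem of_fppf_family {P : MorphismProperty Scheme.{u}} [P.RespectsIso] [IsZariskiLocalAtTarget P]
    [P.DescendsAlong (@Surjective ⊓ @Flat ⊓ @LocallyOfFinitePresentation)] {X Y : Scheme.{u}} (g : X ⟶ Y)
    {R : Presieve Y} (hR : R ∈ Scheme.fppfPrecoverage Y)
    (h : ∀ ⦃Y' : Scheme.{u}⦄ (f : Y' ⟶ Y), R f → P (pullback.snd g f)) : P g := by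
  obtain ⟨hjs, hp⟩ := mem_fppf_iff hR
  choose Z f hf z hz using hjs
  let q : (∐ fun y => Z y) ⟶ Y := Sigma.desc fun y => f y
  have h1 : Surjective q := ⟨fun y => by
    refine ⟨(Sigma.ι (fun y => Z y) y) (z y), ?_⟩
    rw [← Scheme.Hom.comp_apply, Sigma.ι_desc]; exact hz y⟩
  have h2 : Flat q := IsZariskiLocalAtSource.sigmaDesc fun y => (hp (hf y)).1
  have h3 : LocallyOfFinitePresentation q := IsZariskiLocalAtSource.sigmaDesc fun y => (hp (hf y)).2
  refine MorphismProperty.of_pullback_snd_of_descendsAlong (Q := @Surjective ⊓ @Flat ⊓ @LocallyOfFinitePresentation)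
    ⟨⟨h1, h2⟩, h3⟩ ?_
  apply IsZariskiLocalAtTarget.of_openCover (sigmaOpenCover fun y => Z y)
  intro y
  have e := h (f y) (hf y)
  let j := Sigma.ι (fun y => Z y) y
  have sq : IsPullback (pullback.fst (pullback.snd g q) j ≫ pullback.fst g q)
      (pullback.snd (pullback.snd g q) j) g (f y) := by
    have := (IsPullback.of_hasPullback (pullback.snd g q) j).paste_horiz (IsPullback.of_hasPullback g q)
    rwa [show j ≫ q = f y from Sigma.ι_desc _ _] at this
  have : pullback.snd (pullback.snd g q) j =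
      (sq.isoIsPullback _ _ (IsPullback.of_hasPullback g (f y))).hom ≫ pullback.snd g (f y) :=
    (sq.isoIsPullback_hom_snd _ _ _).symm
  show P (pullback.snd (pullback.snd g q) j)
  rw [this]
  exact (P.cancel_left_of_respectsIso _ _).2 e

variable {S : Scheme.{u}} {G : Over S} [GrpObj G] {X : Over S} {aX : AlgGrp.Action G X}

omit [GrpObj G] in
lemma isPullback_left_unit (W : Over S) : IsPullback (fst G W).left (snd G W).left G.hom W.hom := by
  have h := (isPullback_fst_snd G W).map (Over.forget S)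
  have e1 : (toUnit G).left = G.hom := by simpa using Over.w (toUnit G)
  have e2 : (toUnit W).left = W.hom := by simpa using Over.w (toUnit W)
  simpa [e1, e2] using h

omit [GrpObj G] in
lemma snd_left_prop {P : MorphismProperty Scheme.{u}} [P.IsStableUnderBaseChange] (h : P G.hom) (W : Over S) :
    P (snd G W).left :=
  MorphismProperty.of_isPullback (isPullback_left_unit W) h

section

variable {K : Precoverage Scheme.{u}} (A : QuotObj K G aX)

/-- the point of the torsor given by a section over a test scheme -/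
lemma exists_pt {T' : Scheme.{u}} {f : T' ⟶ A.base.left}
    (h : NonAbH1.HasSectionOver (Over.mk A.π.left : Over A.base.left) f) :
    ∃ σ : Over.mk (f ≫ A.base.hom) ⟶ A.P, (σ ≫ A.π).left = f := by
  obtain ⟨s, hs⟩ := h
  simp only [Over.mk_hom] at hs
  exact ⟨Over.homMk s (by rw [← Over.w A.π, ← Category.assoc, hs]; rfl), hs⟩

lemma pullback_snd_prop {P : MorphismProperty Scheme.{u}} [P.IsStableUnderBaseChange]
    (hG : P G.hom) {T' : Scheme.{u}} {f : T' ⟶ A.base.left}
    (h : NonAbH1.HasSectionOver (Over.mk A.π.left : Over A.base.left) f) : P (pullback.snd A.π.left f) := by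
  obtain ⟨σ, hσ⟩ := exists_pt A h
  have sq := (isPullback_pt A σ).map (Over.forget S)
  simp only [Over.forget_map, hσ] at sq
  rw [← (IsPullback.of_hasPullback A.π.left f).isoIsPullback_hom_snd _ _ sq]
  exact (P.cancel_left_of_respectsIso _ _).2 (snd_left_prop hG _)

end

variable (A : QuotObj Scheme.fppfPrecoverage G aX)

theorem π_prop {P : MorphismProperty Scheme.{u}} [P.IsStableUnderBaseChange] [IsZariskiLocalAtTarget P]
    [P.DescendsAlong (@Surjective ⊓ @Flat ⊓ @LocallyOfFinitePresentation)] (hG : P G.hom) :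
    P A.π.left := by
  obtain ⟨R, hR, hs⟩ := A.loc
  exact of_fppf_family A.π.left hR fun Y' f hf => pullback_snd_prop A hG (hs f hf)

theorem π_surjective : Surjective A.π.left := by
  obtain ⟨R, hR, hs⟩ := A.loc
  refine ⟨fun t => ?_⟩
  obtain ⟨Z, f, hf, z, hz⟩ := (mem_fppf_iff hR).1 t
  obtain ⟨s, hs⟩ := hs f hf
  simp only [Over.mk_hom] at hs
  exact ⟨s z, (congrArg (fun q => q z) hs).trans hz⟩

instance : IsZariskiLocalAtTarget @Flat.{u} := inferInstance

instance descendsAlong_flat_fppf :
    MorphismProperty.DescendsAlong @Flat.{u} (@Surjective ⊓ @Flat ⊓ @LocallyOfFinitePresentation) :=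
  haveI := GrpQuot.QuotSection.descendsAlong_flat.{u}
  inferInstance

instance descendsAlong_isAffineHom_fppf :
    MorphismProperty.DescendsAlong @IsAffineHom.{u} (@Surjective ⊓ @Flat ⊓ @LocallyOfFinitePresentation) :=
  haveI := FpqcDesc.descendsAlong_isAffineHom.{u}
  inferInstance

theorem π_flat [Flat G.hom] : Flat A.π.left := π_prop (P := @Flat) A ‹_›

theorem π_lfp [LocallyOfFinitePresentation G.hom] : LocallyOfFinitePresentation A.π.left :=
  π_prop (P := @LocallyOfFinitePresentation) A ‹_›

theorem π_smooth [Smooth G.hom] : Smooth A.π.left := π_prop (P := @Smooth) A ‹_›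

theorem π_isAffineHom [IsAffineHom G.hom] : IsAffineHom A.π.left := π_prop (P := @IsAffineHom) A ‹_›

end Groth.Agent.Quot16
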