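import Groth.Agent.Lib.FC16.Yoneda
import Groth.Agent.Lib.FC16.Descent

/-! A criterion for a category fibred in groupoids to be a stack, in terms of cocones. -/

universe v₂ u₂ v u

open CategoryTheory CategoryTheory.Functor CategoryTheory.Limits Opposite

set_option linter.style.haveILetI false
set_option linter.unusedSectionVars false
set_option backward.isDefEq.respectTransparency false
set_option backward.isDefEq.respectTransparency.types false

namespace Groth.Agent.Quot16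

open Groth.Agent.FC16

variable {C : Type u} [Category.{v} C] {𝒳 : BasedCategory.{v₂, u₂} C} {U : C} {R : Sieve U}

/-- a cocone on a descent datum: an object over `U` with compatible lifts of the arrows of the sieve -/
structure Cocone (t : Stk.sieveCat R ⥤ᵇ 𝒳) where
  /-- the object over `U` -/
  pt : 𝒳.obj
  over : 𝒳.p.obj pt = U
  /-- the legs -/
  θ : ∀ c, t.obj c ⟶ pt
  lift : ∀ c, 𝒳.p.IsHomLift c.obj.hom (θ c)
  nat : ∀ {a b} (g : a ⟶ b), t.map g ≫ θ b = θ a

/-- the condition that morphisms glue uniquely along `R` -/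
def GluesHom (R : Sieve U) (𝒳 : BasedCategory.{v₂, u₂} C) : Prop :=
  ∀ (t : Stk.sieveCat R ⥤ᵇ 𝒳) (s s' : Cocone t),
    ∃! χ : s.pt ⟶ s'.pt, 𝒳.p.IsHomLift (𝟙 U) χ ∧ ∀ c, s.θ c ≫ χ = s'.θ c

/-- the cocone of a functor on the slice -/
def resCocone (R : Sieve U) (s : FibCat.overCat U ⥤ᵇ 𝒳) : Cocone ((Stk.resSieve R 𝒳).obj s) where
  pt := s.obj (Over.mk (𝟙 U))
  over := s.w_obj _
  θ c := s.map (toTerm c.obj)
  lift c := map_toTerm_lift s c.obj
  nat {a b} g := by
    show s.map g.hom ≫ s.map (toTerm b.obj) = s.map (toTerm a.obj)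
    rw [← s.toFunctor.map_comp]
    congr 1
    exact Over.OverMorphism.ext (Over.w g.hom)

/-- the cocone transported along a morphism of descent data -/
def compCocone {t t' : Stk.sieveCat R ⥤ᵇ 𝒳} (γ : t ⟶ t') (s : Cocone t') : Cocone t where
  pt := s.pt
  over := s.over
  θ c := γ.toNatTrans.app c ≫ s.θ c
  lift c := by
    haveI : 𝒳.p.IsHomLift (𝟙 c.obj.left) (γ.toNatTrans.app c) := BasedNatTrans.isHomLift γ rfl
    haveI := s.lift c
    have h : 𝒳.p.IsHomLift (𝟙 c.obj.left ≫ c.obj.hom) (γ.toNatTrans.app c ≫ s.θ c) := inferInstance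
    rwa [Category.id_comp] at h
  nat {a b} g := by
    rw [← Category.assoc]
    refine (congrArg (fun q => q ≫ s.θ b) (γ.toNatTrans.naturality g)).trans ?_
    rw [Category.assoc, s.nat]

theorem isPrestackFor_of (hX : FibCat.IsFibGrpd 𝒳.p) (h : GluesHom R 𝒳) :
    Stk.IsPrestackFor R 𝒳 := by
  refine ⟨⟨fun {s s'} γ => ?_⟩, ⟨fun {s s'} α β hab => ?_⟩⟩
  · obtain ⟨χ, ⟨hχ, hχθ⟩, -⟩ := h _ (resCocone R s) (compCocone γ (resCocone R s'))
    haveI : 𝒳.p.IsHomLift (𝟙 U) χ := hχ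
    let hH : PresCart s' := presCart_of_isFibGrpd hX s'
    refine ⟨FC16.ext hH χ, ?_⟩
    apply BasedNatTrans.ext
    apply NatTrans.ext
    funext c
    haveI := map_toTerm_cart hH c.obj
    haveI : 𝒳.p.IsHomLift (𝟙 c.obj.left) (γ.toNatTrans.app c) := BasedNatTrans.isHomLift γ rfl
    haveI : 𝒳.p.IsHomLift (𝟙 c.obj.left) ((FC16.ext hH χ).toNatTrans.app c.obj) :=
      BasedNatTrans.isHomLift _ rfl
    show (FC16.ext hH χ).toNatTrans.app c.obj = γ.toNatTrans.app c
    apply IsStronglyCartesian.ext 𝒳.p c.obj.hom (s'.map (toTerm c.obj)) (𝟙 c.obj.left)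
    exact (extApp_fac hH χ c.obj).trans (hχθ c)
  · have e : ∀ (δ : s ⟶ s') (c : (Stk.sieveCat R).obj),
        (resCocone R s).θ c ≫ δ.toNatTrans.app (Over.mk (𝟙 U)) =
          (compCocone ((Stk.resSieve R 𝒳).map δ) (resCocone R s')).θ c :=
      fun δ c => δ.toNatTrans.naturality (toTerm c.obj)
    obtain ⟨χ, -, hu⟩ := h _ (resCocone R s) (compCocone ((Stk.resSieve R 𝒳).map α) (resCocone R s'))
    refine natTrans_ext (presCart_of_isFibGrpd hX s') α β ?_
    have hβ : β.toNatTrans.app (Over.mk (𝟙 U)) = χ := by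
      refine hu _ ⟨BasedNatTrans.isHomLift β rfl, fun c => ?_⟩
      rw [hab]
      exact e β c
    rw [hβ]
    exact hu _ ⟨BasedNatTrans.isHomLift α rfl, fun c => e α c⟩

theorem isStackFor_of (hX : FibCat.IsFibGrpd 𝒳.p) (h : GluesHom R 𝒳)
    (he : ∀ t : Stk.sieveCat R ⥤ᵇ 𝒳, Nonempty (Cocone t)) : Stk.IsStackFor R 𝒳 := by
  obtain ⟨h1, h2⟩ := isPrestackFor_of hX h
  haveI : 𝒳.p.IsFibered := FC16.isFibered hX
  haveI : (Stk.resSieve R 𝒳).EssSurj := ⟨fun t => by
    obtain ⟨s⟩ := he t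
    refine ⟨ofObj s.over, ⟨?_⟩⟩
    let G := ofObj (𝒳 := 𝒳) s.over
    let π : ∀ c : (Stk.sieveCat R).obj, G.obj c.obj ⟶ s.pt := fun c =>
      G.map (toTerm c.obj) ≫ (ofObjIso s.over).hom
    have πl : ∀ c, 𝒳.p.IsHomLift c.obj.hom (π c) := fun c => by
      haveI : 𝒳.p.IsHomLift c.obj.hom (G.map (toTerm c.obj)) := map_toTerm_lift G c.obj
      have h : 𝒳.p.IsHomLift (c.obj.hom ≫ 𝟙 U) (G.map (toTerm c.obj) ≫ (ofObjIso s.over).hom) :=
        inferInstance
      rwa [Category.comp_id] at h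
    have key : ∀ c, ∃ e : G.obj c.obj ≅ t.obj c,
        𝒳.p.IsHomLift (𝟙 c.obj.left) e.hom ∧ e.hom ≫ s.θ c = π c := fun c =>
      @exists_iso_of_lifts _ _ _ 𝒳.p hX _ _ c.obj.hom _ _ _ (π c) (s.θ c) (πl c) (s.lift c)
    choose e hel hee using key
    refine BasedNatIso.mkNatIso (NatIso.ofComponents e (fun {a b} g => ?_)) hel
    haveI := hel a; haveI := hel b
    haveI := s.lift b
    haveI := FC16.isStronglyCartesian hX b.obj.hom (s.θ b)
    haveI hg1 : 𝒳.p.IsHomLift g.hom.left (G.map g.hom) := map_over_lift G g.hom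
    haveI hg2 : 𝒳.p.IsHomLift g.hom.left (t.map g) := by
      haveI : (Stk.sieveCat R).p.IsHomLift g.hom.left g := IsHomLift.map (Stk.sieveCat R).p g
      exact BasedFunctor.preserves_isHomLift t g.hom.left g
    haveI : 𝒳.p.IsHomLift g.hom.left (G.map g.hom ≫ (e b).hom) := by
      have h : 𝒳.p.IsHomLift (g.hom.left ≫ 𝟙 b.obj.left) (G.map g.hom ≫ (e b).hom) := inferInstance
      rwa [Category.comp_id] at h
    haveI : 𝒳.p.IsHomLift g.hom.left ((e a).hom ≫ t.map g) := by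
      have h : 𝒳.p.IsHomLift (𝟙 a.obj.left ≫ g.hom.left) ((e a).hom ≫ t.map g) := inferInstance
      rwa [Category.id_comp] at h
    show G.map g.hom ≫ (e b).hom = (e a).hom ≫ t.map g
    apply IsStronglyCartesian.ext 𝒳.p b.obj.hom (s.θ b) g.hom.left
    rw [Category.assoc, Category.assoc, hee, s.nat, hee]
    show G.map g.hom ≫ G.map (toTerm b.obj) ≫ _ = G.map (toTerm a.obj) ≫ _
    rw [← Category.assoc, ← G.toFunctor.map_comp]
    congr 2
    exact Over.OverMorphism.ext (Over.w g.hom)⟩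
  haveI := h1
  haveI := h2
  exact { }

end Groth.Agent.Quot16
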