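import Groth.Prelude.Def_AlgSt5
import Groth.Agent.Lib.FC16.Yoneda
import Groth.Agent.Lib.FC16.Fiber

/-! Torsor calculus for the quotient category `[X/G]`. -/

universe u

open CategoryTheory CategoryTheory.Limits MonoidalCategory CartesianMonoidalCategory MonObj GrpObj
  AlgebraicGeometry

set_option linter.style.haveILetI false
set_option linter.unusedSectionVars false
set_option linter.unusedSimpArgs false
set_option backward.isDefEq.respectTransparency false
set_option backward.isDefEq.respectTransparency.types false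

namespace Groth.Agent.Quot16

open AlgSt

variable {S : Scheme.{u}} {K : Precoverage Scheme.{u}} {G : Over S} [GrpObj G] {X : Over S}
  {aX : AlgGrp.Action G X}

/-- the unit section of a trivial torsor -/
noncomputable def unitSec (W : Over S) : W ⟶ G ⊗ W := lift (toUnit W ≫ η[G]) (𝟙 W)

@[reassoc (attr := simp)]
lemma unitSec_snd (W : Over S) : unitSec W ≫ snd G W = 𝟙 W := lift_snd _ _

lemma unitSec_natural {W W' : Over S} (f : W' ⟶ W) :
    unitSec (G := G) W' ≫ (G ◁ f) = f ≫ unitSec W := by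
  apply CartesianMonoidalCategory.hom_ext
  · simp [unitSec]
  · simp [unitSec]

lemma unitSec_whisker_act {P W : Over S} (a : AlgGrp.Action G P) (σ : W ⟶ P) :
    unitSec W ≫ (G ◁ σ) ≫ a.act = σ := by
  rw [← Category.assoc, unitSec_natural, Category.assoc]
  have h : unitSec (G := G) P ≫ a.act = 𝟙 P := by
    have e : unitSec (G := G) P = (λ_ P).inv ≫ (η[G] ▷ P) := by
      apply CartesianMonoidalCategory.hom_ext <;> simp [unitSec]
    rw [e, Category.assoc, a.one_act, Iso.inv_hom_id]
  rw [h, Category.comp_id]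

/-- the two descriptions of the action of `G` on `G ⊗ W` through a point -/
lemma leftMul_whisker {P W : Over S} (a : AlgGrp.Action G P) (σ : W ⟶ P) :
    (leftMul G W).act ≫ (G ◁ σ) ≫ a.act = (G ◁ ((G ◁ σ) ≫ a.act)) ≫ a.act := by
  have hm : (G ◁ a.act) ≫ a.act = (α_ G G P).inv ≫ (μ[G] ▷ P) ≫ a.act := by
    rw [a.mul_act, Iso.inv_hom_id_assoc]
  have hμ : fst (G ⊗ G) P ≫ μ[G] = (fst _ _ ≫ fst G G) * (fst _ _ ≫ snd G G) := by
    rw [Hom.mul_def, ← comp_lift, lift_fst_snd, Category.comp_id]
  have h : (leftMul G W).act ≫ (G ◁ σ) = (G ◁ (G ◁ σ)) ≫ (α_ G G P).inv ≫ (μ[G] ▷ P) := by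
    apply CartesianMonoidalCategory.hom_ext
    · simp only [leftMul, Category.assoc, lift_fst, lift_snd, lift_fst_assoc, lift_snd_assoc, comp_lift, comp_mul, whiskerLeft_fst, whiskerLeft_snd, whiskerLeft_fst_assoc, whiskerLeft_snd_assoc, whiskerRight_fst, whiskerRight_snd, whiskerRight_fst_assoc, whiskerRight_snd_assoc, associator_hom_fst, associator_hom_snd_fst, associator_hom_snd_snd, associator_hom_snd_fst_assoc, associator_hom_snd_snd_assoc, associator_inv_fst_fst, associator_inv_fst_snd, associator_inv_snd, associator_inv_fst_fst_assoc, associator_inv_fst_snd_assoc, associator_inv_snd_assoc, hμ]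
    · simp only [leftMul, Category.assoc, lift_fst, lift_snd, lift_fst_assoc, lift_snd_assoc, comp_lift, comp_mul, whiskerLeft_fst, whiskerLeft_snd, whiskerLeft_fst_assoc, whiskerLeft_snd_assoc, whiskerRight_fst, whiskerRight_snd, whiskerRight_fst_assoc, whiskerRight_snd_assoc, associator_hom_fst, associator_hom_snd_fst, associator_hom_snd_snd, associator_hom_snd_fst_assoc, associator_hom_snd_snd_assoc, associator_inv_fst_fst, associator_inv_fst_snd, associator_inv_snd, associator_inv_fst_fst_assoc, associator_inv_fst_snd_assoc, associator_inv_snd_assoc]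
  rw [reassoc_of% h, MonoidalCategory.whiskerLeft_comp, Category.assoc, hm]

/-- a morphism over a base is invariant on the action -/
lemma act_π (A : QuotObj K G aX) : A.act.act ≫ A.π = snd G A.P ≫ A.π := A.cart.w

lemma isPullback_pt (A : QuotObj K G aX) {W : Over S} (σ : W ⟶ A.P) :
    IsPullback ((G ◁ σ) ≫ A.act.act) (snd G W) A.π (σ ≫ A.π) :=
  (isPullback_whiskerLeft σ).paste_horiz A.cart

/-- a morphism of torsors over an isomorphism is an isomorphism -/
theorem isIso_of_isIso_base {A B : QuotObj K G aX} (φ : A ⟶ B) [IsIso φ.base] : IsIso φ := by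
  haveI : IsIso φ.top := φ.cart.isIso_fst_of_isIso
  refine ⟨{ base := inv φ.base, top := inv φ.top, eqv := ?_, cart := ?_, wφ := ?_ },
    QuotObj.hom_ext (IsIso.hom_inv_id _) (IsIso.hom_inv_id _),
    QuotObj.hom_ext (IsIso.inv_hom_id _) (IsIso.inv_hom_id _)⟩
  · rw [IsIso.comp_inv_eq, Category.assoc, φ.eqv, ← MonoidalCategory.whiskerLeft_comp_assoc,
      IsIso.inv_hom_id, MonoidalCategory.whiskerLeft_id, Category.id_comp]
  · exact IsPullback.of_horiz_isIso ⟨by rw [IsIso.eq_comp_inv, Category.assoc, ← φ.cart.w, IsIso.inv_hom_id_assoc]⟩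
  · rw [IsIso.inv_comp_eq, φ.wφ]

section QuotMap

variable [K.HasIsos]

variable (K aX) in
/-- the trivial torsor of a point of `X` -/
noncomputable abbrev triv {W : Over S} (x : W ⟶ X) : QuotObj K G aX :=
  (quotMap K G aX).obj ((ofOverCat X).obj (Over.mk x))

lemma triv_φ {W : Over S} (x : W ⟶ X) : (triv K aX x).φ = (G ◁ x) ≫ aX.act := rfl

/-- the morphism from a trivial torsor attached to a point of a torsor -/
noncomputable def homOfPt (A : QuotObj K G aX) {W : Over S} (σ : W ⟶ A.P) {x : W ⟶ X}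
    (hx : σ ≫ A.φ = x) : triv K aX x ⟶ A where
  base := σ ≫ A.π
  top := (G ◁ σ) ≫ A.act.act
  eqv := leftMul_whisker A.act σ
  cart := isPullback_pt A σ
  wφ := by
    show ((G ◁ σ) ≫ A.act.act) ≫ A.φ = (G ◁ x) ≫ aX.act
    rw [Category.assoc, A.eqv, ← MonoidalCategory.whiskerLeft_comp_assoc, hx]

@[simp] lemma homOfPt_base (A : QuotObj K G aX) {W : Over S} (σ : W ⟶ A.P) {x : W ⟶ X}
    (hx : σ ≫ A.φ = x) : (homOfPt A σ hx).base = σ ≫ A.π := rfl

@[simp] lemma homOfPt_top (A : QuotObj K G aX) {W : Over S} (σ : W ⟶ A.P) {x : W ⟶ X}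
    (hx : σ ≫ A.φ = x) : (homOfPt A σ hx).top = (G ◁ σ) ≫ A.act.act := rfl

/-- the point attached to a morphism from a trivial torsor -/
noncomputable def sec {A : QuotObj K G aX} {W : Over S} {x : W ⟶ X} (h : triv K aX x ⟶ A) :
    W ⟶ A.P :=
  unitSec W ≫ h.top

lemma top_eq {A : QuotObj K G aX} {W : Over S} {x : W ⟶ X} (h : triv K aX x ⟶ A) :
    h.top = (G ◁ sec h) ≫ A.act.act := by
  have he : (G ◁ sec h) ≫ A.act.act = (G ◁ unitSec W) ≫ (leftMul G W).act ≫ h.top := by
    have h' : (leftMul G W).act ≫ h.top = (G ◁ h.top) ≫ A.act.act := h.eqv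
    rw [h', sec, MonoidalCategory.whiskerLeft_comp, Category.assoc]
  have e : (G ◁ unitSec W) ≫ (leftMul G W).act = 𝟙 (G ⊗ W) := by
    apply CartesianMonoidalCategory.hom_ext
    · simp only [leftMul, unitSec, Category.assoc, lift_fst, comp_mul, whiskerLeft_fst,
        whiskerLeft_snd_assoc, Category.id_comp]
      have h1 : snd G W ≫ toUnit W ≫ η[G] = 1 := by
        rw [Hom.one_def, ← Category.assoc, toUnit_unique (snd G W ≫ toUnit W) (toUnit _)]
      rw [h1, _root_.mul_one]
    · simp [leftMul, unitSec]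
  rw [he, ← Category.assoc, e, Category.id_comp]

lemma sec_π {A : QuotObj K G aX} {W : Over S} {x : W ⟶ X} (h : triv K aX x ⟶ A) :
    sec h ≫ A.π = h.base := by
  have hw : h.top ≫ A.π = snd G W ≫ h.base := h.cart.w
  rw [sec, Category.assoc, hw, unitSec_snd_assoc]

lemma sec_φ {A : QuotObj K G aX} {W : Over S} {x : W ⟶ X} (h : triv K aX x ⟶ A) :
    sec h ≫ A.φ = x := by
  have hw : h.top ≫ A.φ = (G ◁ x) ≫ aX.act := h.wφ
  rw [sec, Category.assoc, hw, unitSec_whisker_act]

@[simp] lemma sec_homOfPt (A : QuotObj K G aX) {W : Over S} (σ : W ⟶ A.P) {x : W ⟶ X}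
    (hx : σ ≫ A.φ = x) : sec (homOfPt A σ hx) = σ := by
  rw [sec, homOfPt_top, unitSec_whisker_act]

lemma hom_ext_sec {A : QuotObj K G aX} {W : Over S} {x : W ⟶ X} {h h' : triv K aX x ⟶ A}
    (e : sec h = sec h') : h = h' :=
  QuotObj.hom_ext (by rw [← sec_π, ← sec_π, e]) (by rw [top_eq h, top_eq h', e])

lemma sec_comp {A B : QuotObj K G aX} {W : Over S} {x : W ⟶ X} (h : triv K aX x ⟶ A) (g : A ⟶ B) :
    sec (h ≫ g) = sec h ≫ g.top := by
  simp [sec]

lemma sec_precomp {A : QuotObj K G aX} {W W' : Over S} {x : W ⟶ X} {x' : W' ⟶ X}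
    (k : Over.mk x' ⟶ Over.mk x) (h : triv K aX x ⟶ A) :
    sec ((quotMap K G aX).map ((ofOverCat X).map k) ≫ h) = k.left ≫ sec h := by
  show unitSec W' ≫ (G ◁ k.left) ≫ h.top = k.left ≫ unitSec W ≫ h.top
  rw [← Category.assoc, unitSec_natural, Category.assoc]
  rfl

end QuotMap

section FibGrpd

lemma isStronglyCartesian_hom {A B : QuotObj K G aX} (h : A ⟶ B) :
    (QuotSt K G aX).p.IsStronglyCartesian ((QuotSt K G aX).p.map h) h where
  universal_property' {C} g ψ hψ := by
    have hb : ψ.base = g ≫ h.base := by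
      have := IsHomLift.fac' (QuotSt K G aX).p (g ≫ (QuotSt K G aX).p.map h) ψ
      simp at this
      exact this
    have hw : ψ.top ≫ B.π = (C.π ≫ g) ≫ h.base := by rw [ψ.cart.w, hb, Category.assoc]
    let t : C.P ⟶ A.P := h.cart.lift ψ.top (C.π ≫ g) hw
    have ht1 : t ≫ h.top = ψ.top := h.cart.lift_fst _ _ _
    have ht2 : t ≫ A.π = C.π ≫ g := h.cart.lift_snd _ _ _
    let χ : C ⟶ A :=
      { base := g
        top := t
        eqv := by
          apply h.cart.hom_ext
          · rw [Category.assoc, ht1, ψ.eqv, Category.assoc, h.eqv, ← MonoidalCategory.whiskerLeft_comp_assoc,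
              ht1]
          · rw [Category.assoc, ht2, ← Category.assoc, act_π, Category.assoc, Category.assoc, act_π,
              whiskerLeft_snd_assoc, ht2]
        cart := IsPullback.of_right (by rw [ht1, ← hb]; exact ψ.cart) ht2 h.cart
        wφ := by rw [← h.wφ, ← Category.assoc, ht1, ψ.wφ] }
    have hχ : (QuotSt K G aX).p.IsHomLift g χ := IsHomLift.map (QuotSt K G aX).p χ
    refine ⟨χ, ⟨hχ, QuotObj.hom_ext hb.symm ht1⟩, ?_⟩
    rintro χ' ⟨hχ', he⟩
    have hb' : χ'.base = g := by
      have := IsHomLift.fac' (QuotSt K G aX).p g χ'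
      simp at this
      exact this
    refine QuotObj.hom_ext hb' (h.cart.hom_ext ?_ ?_)
    · rw [← QuotObj.comp_top, he]; exact ht1.symm
    · rw [χ'.cart.w, hb']; exact ht2.symm

variable [K.IsStableUnderBaseChange]

omit [GrpObj G] in
lemma pullback_loc {T V : Over S} (f : V ⟶ T) {P P' : Over S} {π : P ⟶ T} {π' : P' ⟶ V} {t : P' ⟶ P}
    (h : IsPullback t π' π f) (hl : NonAbH1.IsLocallyTrivialFor K (Over.mk π.left : Over T.left)) :
    NonAbH1.IsLocallyTrivialFor K (Over.mk π'.left : Over V.left) := by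
  obtain ⟨R, hR, hs⟩ := hl
  have hc : IsPullback t.left π'.left π.left f.left := h.map (Over.forget S)
  refine ⟨R.pullbackArrows f.left, Precoverage.pullbackArrows_mem f.left hR, ?_⟩
  rintro _ _ ⟨Z, j, hj⟩
  obtain ⟨s, hs⟩ := hs j hj
  simp only [Over.mk_hom] at hs
  refine ⟨hc.lift (pullback.fst j f.left ≫ s) (pullback.snd j f.left)
    (by rw [Category.assoc, hs, pullback.condition]), hc.lift_snd _ _ _⟩

lemma exists_pullbackObj (A : QuotObj K G aX) {V : Over S} (f : V ⟶ A.base) :
    ∃ (B : QuotObj K G aX) (h : B ⟶ A), (QuotSt K G aX).p.IsHomLift f h := by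
  have sq := IsPullback.of_hasPullback A.π f
  let t := pullback.fst A.π f
  let q := pullback.snd A.π f
  have hw : ((G ◁ t) ≫ A.act.act) ≫ A.π = (snd G (pullback A.π f) ≫ q) ≫ f := by
    rw [Category.assoc, act_π, whiskerLeft_snd_assoc, sq.w, Category.assoc]
  let b : G ⊗ pullback A.π f ⟶ pullback A.π f := sq.lift ((G ◁ t) ≫ A.act.act) (snd G _ ≫ q) hw
  have hb1 : b ≫ t = (G ◁ t) ≫ A.act.act := sq.lift_fst _ _ _
  have hb2 : b ≫ q = snd G _ ≫ q := sq.lift_snd _ _ _
  let act : AlgGrp.Action G (pullback A.π f) :=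
    { act := b
      one_act := by
        apply sq.hom_ext
        · show ((η[G] ▷ _) ≫ b) ≫ t = (λ_ (pullback A.π f)).hom ≫ t
          rw [Category.assoc, hb1, ← whisker_exchange_assoc, A.act.one_act]
          apply leftUnitor_naturality
        · show ((η[G] ▷ _) ≫ b) ≫ q = (λ_ (pullback A.π f)).hom ≫ q
          rw [Category.assoc, hb2, whiskerRight_snd_assoc, leftUnitor_hom]
      mul_act := by
        apply sq.hom_ext
        · show ((μ[G] ▷ _) ≫ b) ≫ t = ((α_ G G _).hom ≫ (G ◁ b) ≫ b) ≫ t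
          rw [Category.assoc, hb1, ← whisker_exchange_assoc, A.act.mul_act, Category.assoc,
            Category.assoc, hb1, ← MonoidalCategory.whiskerLeft_comp_assoc, hb1,
            MonoidalCategory.whiskerLeft_comp, Category.assoc, tensor_whiskerLeft]
          simp only [Category.assoc, Iso.inv_hom_id_assoc]
        · show ((μ[G] ▷ _) ≫ b) ≫ q = ((α_ G G _).hom ≫ (G ◁ b) ≫ b) ≫ q
          simp only [Category.assoc, hb2, whiskerRight_snd_assoc, whiskerLeft_snd_assoc,
            associator_hom_snd_snd_assoc] }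
  have outer : IsPullback (b ≫ t) (snd G _) A.π (q ≫ f) := by
    rw [hb1, ← sq.w]; exact (isPullback_whiskerLeft t).paste_horiz A.cart
  let B : QuotObj K G aX :=
          { base := V
            P := pullback A.π f
            act := act
            π := q
            cart := IsPullback.of_right outer hb2 sq
            loc := pullback_loc f sq A.loc
            φ := t ≫ A.φ
            eqv := by rw [reassoc_of% hb1, A.eqv, ← MonoidalCategory.whiskerLeft_comp_assoc] }
  let h : B ⟶ A :=
          { base := f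
            top := t
            eqv := hb1
            cart := sq
            wφ := rfl }
  exact ⟨B, h, IsHomLift.map (QuotSt K G aX).p h⟩

theorem isFibGrpd : FibCat.IsFibGrpd (QuotSt K G aX).p where
  exists_lift {A V} f := exists_pullbackObj A f
  isStronglyCartesian h := isStronglyCartesian_hom h

end FibGrpd

end Groth.Agent.Quot16
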