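import Groth.Agent.Lib.Quot16.Local
import Groth.Agent.Lib.StAlg16.LocPInst
import Groth.Agent.Lib.StAlg16.AtlasEt
import Groth.Agent.Lib.StAlg.Rep

/-! The 2-fibre products of `X ⟶ [X/G]` with test schemes are the torsors. -/

universe u

open CategoryTheory CategoryTheory.Limits MonoidalCategory CartesianMonoidalCategory MonObj GrpObj
  AlgebraicGeometry

set_option linter.style.haveILetI false
set_option linter.unusedSectionVars false
set_option backward.isDefEq.respectTransparency false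
set_option backward.isDefEq.respectTransparency.types false
set_option maxHeartbeats 1000000

namespace Groth.Agent.Quot16

open AlgSt
open FC16 hiding overMap

variable {S : Scheme.{u}} {K : Precoverage Scheme.{u}} {G : Over S} [GrpObj G] {X : Over S}
  {aX : AlgGrp.Action G X}

lemma base_eq_of_lift {A B : QuotObj K G aX} {V W : Over S} (f : V ⟶ W) (φ φ' : A ⟶ B)
    [h : (QuotSt K G aX).p.IsHomLift f φ] [h' : (QuotSt K G aX).p.IsHomLift f φ'] : φ.base = φ'.base :=
  (IsHomLift.fac' (QuotSt K G aX).p f φ).trans (IsHomLift.fac' (QuotSt K G aX).p f φ').symm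

lemma hom_ext_lift {A B C : QuotObj K G aX} {φ φ' : A ⟶ B} (h : B ⟶ C) (hb : φ.base = φ'.base)
    (e : φ ≫ h = φ' ≫ h) : φ = φ' :=
  QuotObj.hom_ext hb (h.cart.hom_ext (congrArg QuotObj.Hom.top e)
    (by rw [φ.cart.w, φ'.cart.w, hb]))

lemma base_eq_of_lift_self {A B : QuotObj K G aX} (f : A.base ⟶ B.base) (φ : A ⟶ B)
    [h : (QuotSt K G aX).p.IsHomLift f φ] : φ.base = f := by
  have := IsHomLift.fac' (QuotSt K G aX).p f φ
  simp at this
  exact this

variable [K.HasIsos]

variable (K aX) in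
/-- the canonical chart `X ⟶ [X/G]` -/
noncomputable abbrev chartMap : FibCat.overCat X ⥤ᵇ QuotSt K G aX :=
  BasedFunctor.comp (ofOverCat X) (quotMap K G aX)

/-- the point of a morphism out of a chart object -/
noncomputable def secC {A : QuotObj K G aX} (b : Over X) (h : (chartMap K aX).obj b ⟶ A) : b.left ⟶ A.P :=
  sec (x := b.hom) h

/-- the morphism out of a chart object of a point -/
noncomputable def homC (A : QuotObj K G aX) (b : Over X) (σ : b.left ⟶ A.P) (hσ : σ ≫ A.φ = b.hom) :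
    (chartMap K aX).obj b ⟶ A :=
  homOfPt A σ hσ

lemma homC_base (A : QuotObj K G aX) (b : Over X) (σ : b.left ⟶ A.P) (hσ : σ ≫ A.φ = b.hom) :
    (homC A b σ hσ).base = σ ≫ A.π := rfl

instance homC_lift (A : QuotObj K G aX) (b : Over X) (σ : b.left ⟶ A.P) (hσ : σ ≫ A.φ = b.hom) :
    (QuotSt K G aX).p.IsHomLift (σ ≫ A.π) (homC A b σ hσ) :=
  IsHomLift.map (QuotSt K G aX).p (homOfPt A σ hσ)

lemma secC_homC (A : QuotObj K G aX) (b : Over X) (σ : b.left ⟶ A.P) (hσ : σ ≫ A.φ = b.hom) :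
    secC b (homC A b σ hσ) = σ :=
  sec_homOfPt A σ hσ

lemma secC_φ {A : QuotObj K G aX} (b : Over X) (h : (chartMap K aX).obj b ⟶ A) : secC b h ≫ A.φ = b.hom :=
  sec_φ (x := b.hom) h

lemma secC_π {A : QuotObj K G aX} (b : Over X) (h : (chartMap K aX).obj b ⟶ A) : secC b h ≫ A.π = h.base :=
  sec_π (x := b.hom) h

lemma secC_ext {A : QuotObj K G aX} (b : Over X) {h h' : (chartMap K aX).obj b ⟶ A}
    (e : secC b h = secC b h') : h = h' :=
  hom_ext_sec (x := b.hom) e

lemma secC_precomp {A : QuotObj K G aX} {a b : Over X} (k : a ⟶ b) (h : (chartMap K aX).obj b ⟶ A) :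
    secC a ((chartMap K aX).map k ≫ h) = k.left ≫ secC b h :=
  sec_precomp (x := b.hom) (x' := a.hom) k h

lemma map_homC {A : QuotObj K G aX} {a b : Over X} (k : a ⟶ b) (σ : b.left ⟶ A.P) (hσ : σ ≫ A.φ = b.hom)
    (σ' : a.left ⟶ A.P) (hσ' : σ' ≫ A.φ = a.hom) (e : k.left ≫ σ = σ') :
    (chartMap K aX).map k ≫ homC A b σ hσ = homC A a σ' hσ' :=
  secC_ext a (by rw [secC_precomp, secC_homC, secC_homC, e])

attribute [irreducible] secC homC

variable [K.IsStableUnderBaseChange]

section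

variable (A : QuotObj K G aX) (y : FibCat.overCat A.base ⥤ᵇ QuotSt K G aX) (hA : y.obj (Over.mk (𝟙 A.base)) = A)

/-- the morphism from a pullback to the object -/
noncomputable def toA (a : Over A.base) : y.obj a ⟶ A := y.map (toTerm a) ≫ eqToHom hA

lemma toA_lift (a : Over A.base) : (QuotSt K G aX).p.IsHomLift a.hom (toA A y hA a) := by
  haveI : (QuotSt K G aX).p.IsHomLift a.hom (y.map (toTerm a)) := map_toTerm_lift y a
  haveI : (QuotSt K G aX).p.IsHomLift (𝟙 A.base) (eqToHom hA) :=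
    IsHomLift.eqToHom_domain_lift_id _ (y.w_obj _)
  have h : (QuotSt K G aX).p.IsHomLift (a.hom ≫ 𝟙 A.base) (y.map (toTerm a) ≫ eqToHom hA) := inferInstance
  rw [Category.comp_id] at h
  exact h

lemma toA_nat {a b : Over A.base} (g : a ⟶ b) : y.map g ≫ toA A y hA b = toA A y hA a := by
  unfold toA
  rw [← Category.assoc, ← y.map_comp]
  congr 2
  exact Over.OverMorphism.ext (Over.w g)

theorem exists_twoMor :
    ∃ i : BasedFunctor.comp (overMap A.π) y ≅ BasedFunctor.comp (overMap A.φ) (chartMap K aX),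
      ∀ a : Over A.P, i.hom.toNatTrans.app a ≫ homC A ((overMap A.φ).obj a) a.hom rfl =
        toA A y hA ((overMap A.π).obj a) := by
  have gQ : FibCat.IsFibGrpd (QuotSt K G aX).p := isFibGrpd
  let t : Over A.P := Over.mk (𝟙 A.P)
  let h₀ := homC A ((overMap A.φ).obj t) t.hom rfl
  haveI := toA_lift A y hA ((overMap A.π).obj t)
  haveI h₀l : (QuotSt K G aX).p.IsHomLift ((overMap A.π).obj t).hom h₀ :=
    homC_lift A ((overMap A.φ).obj t) t.hom rfl
  obtain ⟨e, hel, hee⟩ := exists_iso_of_lifts gQ ((overMap A.π).obj t).hom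
    (toA A y hA ((overMap A.π).obj t)) h₀
  obtain ⟨i, hi⟩ := FC16.exists_iso (G := BasedFunctor.comp (overMap A.π) y)
    (H := BasedFunctor.comp (overMap A.φ) (chartMap K aX))
    (presCart_of_isFibGrpd gQ _) (presCart_of_isFibGrpd gQ _) e hel
  refine ⟨i, fun a => ?_⟩
  have nat : y.map ((overMap A.π).map (toTerm a)) ≫ i.hom.toNatTrans.app t =
      i.hom.toNatTrans.app a ≫ (chartMap K aX).map ((overMap A.φ).map (toTerm a)) :=
    i.hom.toNatTrans.naturality (toTerm a)
  have h1 := map_homC (K := K) (aX := aX) (A := A) ((overMap A.φ).map (toTerm a)) t.hom rfl a.hom rfl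
    (Category.comp_id _)
  have hee' : i.hom.toNatTrans.app t ≫ h₀ = toA A y hA ((overMap A.π).obj t) :=
    (congrArg (fun q => q ≫ h₀) hi).trans hee
  rw [← h1, ← Category.assoc]
  refine (congrArg (fun q => q ≫ h₀) nat.symm).trans ?_
  rw [Category.assoc, hee']
  exact toA_nat A y hA _

variable (i : BasedFunctor.comp (overMap A.π) y ≅ BasedFunctor.comp (overMap A.φ) (chartMap K aX))
  (key : ∀ a : Over A.P, i.hom.toNatTrans.app a ≫ homC A ((overMap A.φ).obj a) a.hom rfl =
    toA A y hA ((overMap A.π).obj a))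

lemma chart_faithful : (FibCat.fpLift (F := y) (G := chartMap K aX) (overMap A.π) (overMap A.φ) i).toFunctor.Faithful :=
  ⟨fun {a b g g'} h => by
    have h1 := congrArg (fun q => q.hom.fst) h
    have h2 : ((overMap A.π).map g).left = ((overMap A.π).map g').left := congrArg CommaMorphism.left h1
    exact Over.OverMorphism.ext h2⟩

include key in
lemma chart_full : (FibCat.fpLift (F := y) (G := chartMap K aX) (overMap A.π) (overMap A.φ) i).toFunctor.Full :=
  ⟨fun {a b} θ => by
    have hw : y.map θ.hom.fst ≫ i.hom.toNatTrans.app b =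
        i.hom.toNatTrans.app a ≫ (chartMap K aX).map θ.hom.snd := fp_w θ
    have h1 : i.hom.toNatTrans.app a ≫ homC A ((overMap A.φ).obj a) a.hom rfl =
        i.hom.toNatTrans.app a ≫ ((chartMap K aX).map θ.hom.snd ≫ homC A ((overMap A.φ).obj b) b.hom rfl) := by
      rw [key]
      refine Eq.trans ?_ (Category.assoc _ _ _)
      refine Eq.trans ?_ (congrArg (fun q => q ≫ homC A ((overMap A.φ).obj b) b.hom rfl) hw)
      refine Eq.trans ?_ (Category.assoc _ _ _).symm
      rw [key]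
      exact (toA_nat A y hA θ.hom.fst).symm
    haveI : IsIso (i.hom.toNatTrans.app a) :=
      inferInstanceAs (IsIso (((BasedNatTrans.forgetful _ _).mapIso i).app a).hom)
    have h2 := congrArg (secC ((overMap A.φ).obj a)) ((cancel_epi _).1 h1)
    erw [secC_homC, secC_precomp, secC_homC] at h2
    have h4 : θ.hom.snd.left = θ.hom.fst.left := by
      haveI := FibCat.fp_isHomLift_snd y (chartMap K aX) θ
      have := IsHomLift.fac' (FibCat.overCat X).p ((FibCat.fp y (chartMap K aX)).p.map θ) θ.hom.snd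
      simp at this
      exact this
    refine ⟨Over.homMk θ.hom.snd.left h2.symm, ?_⟩
    exact fp_hom_ext (Over.OverMorphism.ext h4) (Over.OverMorphism.ext rfl)⟩

include key in
lemma chart_essSurj : EssSurjOver (FibCat.fpLift (F := y) (G := chartMap K aX) (overMap A.π) (overMap A.φ) i) := by
  intro z
  obtain ⟨⟨a, b, j⟩, hj⟩ := z
  have hab : b.left = a.left :=
    (FibCat.fpSnd y (chartMap K aX)).w_obj ⟨⟨a, b, j⟩, hj⟩
  obtain ⟨bl, ⟨⟨⟩⟩, x⟩ := b
  change bl = a.left at hab
  subst hab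
  haveI hj' : (QuotSt K G aX).p.IsHomLift (𝟙 a.left) j.hom := hj
  haveI hjinv : (QuotSt K G aX).p.IsHomLift (𝟙 a.left) j.inv := inferInstance
  haveI := toA_lift A y hA a
  let h : (chartMap K aX).obj ⟨a.left, ⟨⟨⟩⟩, x⟩ ⟶ A := j.inv ≫ toA A y hA a
  have hhb : h.base = a.hom := by
    have hl : (QuotSt K G aX).p.IsHomLift (𝟙 a.left ≫ a.hom) (j.inv ≫ toA A y hA a) :=
      @IsHomLift.comp _ _ _ _ (QuotSt K G aX).p _ _ _ _ _ _ _ _ _ _ hjinv (toA_lift A y hA a)
    rw [Category.id_comp] at hl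
    exact base_eq_of_lift_self (h := hl) _ h
  let σ := secC ⟨a.left, ⟨⟨⟩⟩, x⟩ h
  let ξ : Over A.P := Over.mk σ
  let e1 : (overMap A.π).obj ξ ≅ a := Over.isoMk (Iso.refl _) (by
    show 𝟙 a.left ≫ a.hom = σ ≫ A.π
    rw [Category.id_comp, secC_π, hhb])
  let e2 : (overMap A.φ).obj ξ ≅ (⟨a.left, ⟨⟨⟩⟩, x⟩ : Over X) := Over.isoMk (Iso.refl _) (by
    show 𝟙 a.left ≫ x = σ ≫ A.φ
    rw [Category.id_comp, secC_φ])
  have hw : y.map e1.hom ≫ j.hom = i.hom.toNatTrans.app ξ ≫ (chartMap K aX).map e2.hom := by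
    refine hom_ext_lift h ?_ ?_
    · haveI : (FibCat.overCat A.base).p.IsHomLift (𝟙 a.left) e1.hom :=
        IsHomLift.map (FibCat.overCat A.base).p e1.hom
      haveI : (FibCat.overCat X).p.IsHomLift (𝟙 a.left) e2.hom :=
        IsHomLift.map (FibCat.overCat X).p e2.hom
      haveI := BasedFunctor.preserves_isHomLift y (𝟙 a.left) e1.hom
      haveI := BasedFunctor.preserves_isHomLift (chartMap K aX) (𝟙 a.left) e2.hom
      haveI : (QuotSt K G aX).p.IsHomLift (𝟙 a.left) (i.hom.toNatTrans.app ξ) :=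
        BasedNatTrans.isHomLift i.hom rfl
      exact base_eq_of_lift (h := inferInstance) (h' := inferInstance) (𝟙 a.left) _ _
    · have lhs : (y.map e1.hom ≫ j.hom) ≫ h = toA A y hA ((overMap A.π).obj ξ) := by
        simp only [h, Category.assoc, Iso.hom_inv_id_assoc]
        exact toA_nat A y hA e1.hom
      have rhs : (chartMap K aX).map e2.hom ≫ h = homC A ((overMap A.φ).obj ξ) σ rfl :=
        secC_ext _ ((secC_precomp e2.hom h).trans ((Category.id_comp _).trans (secC_homC A ((overMap A.φ).obj ξ) σ rfl).symm))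
      rw [lhs, Category.assoc, rhs]
      exact (key ξ).symm
  let E := FibCat.fpLift (F := y) (G := chartMap K aX) (overMap A.π) (overMap A.φ) i
  let z : (FibCat.fp y (chartMap K aX)).obj := ⟨⟨a, ⟨a.left, ⟨⟨⟩⟩, x⟩, j⟩, hj⟩
  let d : E.obj ξ ≅ z := fpIsoMk (x := E.obj ξ) (y := z) e1 e2 hw
  refine ⟨ξ, d, ?_⟩
  haveI : (FibCat.overCat A.base).p.IsHomLift (𝟙 a.left) d.hom.hom.fst :=
    IsHomLift.map (FibCat.overCat A.base).p e1.hom
  exact isHomLift_of_fst (𝟙 a.left) d.hom

end

theorem exists_chart {U : Over S} (y : FibCat.overCat U ⥤ᵇ QuotSt K G aX) :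
    ∃ (A : QuotObj K G aX) (h : A.base = U) (E : FibCat.overCat A.P ⥤ᵇ FibCat.fp y (chartMap K aX)),
      FibCat.IsEquivOver E ∧
      BasedFunctor.comp E (FibCat.fpFst y (chartMap K aX)) = overMap (A.π ≫ eqToHom h) := by
  obtain ⟨A, hA⟩ : ∃ A, A = y.obj (Over.mk (𝟙 U)) := ⟨_, rfl⟩
  have hU : A.base = U := hA ▸ y.w_obj (Over.mk (𝟙 U))
  subst hU
  obtain ⟨i, key⟩ := exists_twoMor A y hA.symm
  haveI := chart_faithful A y i
  haveI := chart_full A y hA.symm i key
  refine ⟨A, rfl, FibCat.fpLift (overMap A.π) (overMap A.φ) i,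
    isEquivOver_of _ (chart_essSurj A y hA.symm i key), ?_⟩
  rw [eqToHom_refl, Category.comp_id]
  rfl

end Groth.Agent.Quot16

namespace Groth.Agent.Quot16

open AlgSt
open FC16 hiding overMap

variable {S : Scheme.{u}} {G : Over S} [GrpObj G] {X : Over S} {aX : AlgGrp.Action G X}

lemma spMapOfOver_overMap {U V : Over S} (f : U ⟶ V) :
    spMapOfOver (BasedFunctor.comp (toOverCat U) (overMap f)) = (AlgSp.yon S).map f := by
  apply ObjectProperty.hom_ext
  ext T x
  apply ULift.ext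
  exact Category.id_comp _

theorem repWith_chartMap (P : MorphismProperty (AlgSp.Sp S))
    (hP : ∀ A : QuotObj Scheme.fppfPrecoverage G aX, P ((AlgSp.yon S).map A.π)) :
    RepByAlgSpWith P (chartMap Scheme.fppfPrecoverage aX) := by
  intro U y
  obtain ⟨A, h, E, hE, hEq⟩ := exists_chart y
  subst h
  refine ⟨(AlgSp.ofScheme S).obj A.P, BasedFunctor.comp (toOverCat A.P) E, ?_, ?_⟩
  · refine isEquivOver_comp ?_ hE
    exact ⟨ofOverCat A.P, ⟨Iso.refl _⟩, ⟨Iso.refl _⟩⟩
  · have e : BasedFunctor.comp (BasedFunctor.comp (toOverCat A.P) E)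
        (FibCat.fpFst y (chartMap Scheme.fppfPrecoverage aX)) =
        BasedFunctor.comp (toOverCat A.P) (overMap A.π) := by
      refine Eq.trans (b := BasedFunctor.comp (toOverCat A.P) (BasedFunctor.comp E
        (FibCat.fpFst y (chartMap Scheme.fppfPrecoverage aX)))) rfl ?_
      rw [hEq, eqToHom_refl, Category.comp_id]
    have e2 := congrArg (fun Φ => spMapOfOver (F := (AlgSp.yon S).obj A.P) Φ) e
    exact e2.symm ▸ ((spMapOfOver_overMap A.π).symm ▸ hP A)

theorem repWith_chartMap_flat [Flat G.hom] :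
    RepByAlgSpWith (AlgSp.LocP @Flat) (chartMap Scheme.fppfPrecoverage aX) :=
  repWith_chartMap _ fun A => (StAlg16.locP_yon_iff A.π).2 (π_flat A)

theorem repWith_chartMap_lfp [LocallyOfFinitePresentation G.hom] :
    RepByAlgSpWith (AlgSp.LocP @LocallyOfFinitePresentation) (chartMap Scheme.fppfPrecoverage aX) :=
  repWith_chartMap _ fun A => (StAlg16.locP_yon_iff A.π).2 (π_lfp A)

theorem repWith_chartMap_smooth [Smooth G.hom] :
    RepByAlgSpWith (AlgSp.LocP @Smooth) (chartMap Scheme.fppfPrecoverage aX) :=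
  repWith_chartMap _ fun A => (StAlg16.locP_yon_iff' A.π).2 (π_smooth A)

theorem repWith_chartMap_surjective :
    RepByAlgSpWith AlgSp.IsSurjectiveMor (chartMap Scheme.fppfPrecoverage aX) :=
  repWith_chartMap _ fun A p => by
    obtain ⟨t, rfl⟩ := (AlgSp.Points.schemeHomeo A.base).surjective p
    obtain ⟨s, rfl⟩ := (π_surjective A).surj t
    exact ⟨AlgSp.Points.schemeHomeo A.P s, AlgSp.Points.map_yon_map_apply A.π s⟩

end Groth.Agent.Quot16
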