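import Groth.Agent.Lib.Quot16.Factor
import Groth.Agent.Lib.StAlg16.AlgClosedLift
import Groth.Prelude.Def_AlgSp

/-! Quotient stacks with geometric orbit spaces as coarse moduli. -/

universe u

open CategoryTheory CategoryTheory.Limits MonoidalCategory CartesianMonoidalCategory MonObj GrpObj
  AlgebraicGeometry Opposite

set_option linter.style.haveILetI false
set_option linter.unusedSectionVars false
set_option backward.isDefEq.respectTransparency false
set_option backward.isDefEq.respectTransparency.types false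

namespace Groth.Agent.Quot16

open AlgSt
open FC16 hiding overMap

variable {S : Scheme.{u}} {G : Over S} [GrpObj G] {X Y : Over S} {aX : AlgGrp.Action G X} {f : X ⟶ Y}

theorem isCatModuli_of_isCatQuotSp [Flat G.hom] [LocallyOfFinitePresentation G.hom]
    (hcat : ∀ (N : AlgSp.Space S) (ψ : (AlgSp.yon S).obj X ⟶ N.obj),
      (AlgSp.yon S).map aX.act ≫ ψ = (AlgSp.yon S).map (snd G X) ≫ ψ →
        ∃! χ : (AlgSp.yon S).obj Y ⟶ N.obj, (AlgSp.yon S).map f ≫ χ = ψ)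
    (π : QuotSt Scheme.fppfPrecoverage G aX ⥤ᵇ ofSch Y)
    (hπ : BasedFunctor.comp (quotMap Scheme.fppfPrecoverage G aX) π = ofSpMap ((AlgSp.yon S).map f)) :
    IsCatModuli π := by
  have comp : ∀ {N : AlgSp.Sp S} (g : (AlgSp.yon S).obj Y ⟶ N),
      BasedFunctor.comp (quotMap Scheme.fppfPrecoverage G aX) (BasedFunctor.comp π (ofSpMap g)) =
        ofSpMap ((AlgSp.yon S).map f ≫ g) := fun {N} g => by
    refine Eq.trans (b := BasedFunctor.comp (BasedFunctor.comp (quotMap Scheme.fppfPrecoverage G aX) π) (ofSpMap g))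
      rfl ?_
    rw [hπ]
    rfl
  have inj : ∀ {N : AlgSp.Sp S} {a b : (AlgSp.yon S).obj X ⟶ N}, ofSpMap a = ofSpMap b → a = b := by
    intro N a b h
    apply ObjectProperty.hom_ext
    have := congrArg StAlg.mapOf h
    rwa [StAlg.mapOf_ofPshMap, StAlg.mapOf_ofPshMap] at this
  refine ⟨AlgSp.IsAlgSpace.yon_obj Y, fun N hN φ => ?_⟩
  let f' : (AlgSp.yon S).obj X ⟶ N :=
    ObjectProperty.homMk (StAlg.mapOf (BasedFunctor.comp (quotMap Scheme.fppfPrecoverage G aX) φ))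
  have hf' : BasedFunctor.comp (quotMap Scheme.fppfPrecoverage G aX) φ = ofSpMap f' :=
    eq_of_iso (StAlg.isoMapOf _)
  have hinv' := invariant_of_factor φ f' hf'
  obtain ⟨χ, hχ, hχu⟩ := hcat ⟨N, hN⟩ f' hinv'
  obtain ⟨φ₀, hφ₀, hu⟩ := existsUnique_factor N f' hinv'
  refine ⟨χ, ⟨eqToIso ?_⟩, fun g hg => ?_⟩
  · exact (hu _ ((comp χ).trans (congrArg ofSpMap hχ))).trans (hu φ hf').symm
  · obtain ⟨ig⟩ := hg
    refine hχu g (inj ?_)
    rw [← comp g, eq_of_iso ig, hf']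

theorem exists_rational_pt [Flat G.hom] [LocallyOfFinitePresentation G.hom] {Ω : Type u} [Field Ω]
    [IsAlgClosed Ω] {t : Spec (CommRingCat.of Ω) ⟶ S} (A : QuotObj Scheme.fppfPrecoverage G aX)
    (hA : A.base = Over.mk t) : ∃ σ : Over.mk t ⟶ A.P, σ ≫ A.π = eqToHom hA.symm := by
  let a : A.P ⟶ Over.mk t := A.π ≫ eqToHom hA
  haveI := π_surjective A
  haveI := π_lfp A
  haveI : IsIso (eqToHom hA).left := inferInstanceAs (IsIso ((Over.forget S).map (eqToHom hA)))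
  haveI : LocallyOfFiniteType a.left := inferInstanceAs (LocallyOfFiniteType (A.π.left ≫ (eqToHom hA).left))
  haveI : Surjective a.left := inferInstanceAs (Surjective (A.π.left ≫ (eqToHom hA).left))
  haveI : JacobsonSpace (Over.mk t).left := inferInstanceAs (JacobsonSpace (Spec (CommRingCat.of Ω)))
  haveI : JacobsonSpace A.P.left := LocallyOfFiniteType.jacobsonSpace a.left
  obtain ⟨w, -⟩ := a.left.surjective (IsLocalRing.closedPoint Ω)
  obtain ⟨c, -, hc⟩ := nonempty_inter_closedPoints (X := A.P.left) (Z := Set.univ) ⟨w, trivial⟩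
    isOpen_univ.isLocallyClosed
  obtain ⟨q, hq⟩ := (pointEquivClosedPoint a.left).symm ⟨c, hc⟩
  have hqw : q ≫ A.P.hom = t := by
    rw [← Over.w a, reassoc_of% hq]
    rfl
  let Q : Over.mk t ⟶ A.P := Over.homMk q hqw
  have hQ : Q ≫ a = 𝟙 _ := Over.OverMorphism.ext hq
  refine ⟨Q, ?_⟩
  rw [← cancel_mono (eqToHom hA), Category.assoc, eqToHom_trans, eqToHom_refl]
  exact hQ

theorem pval_triv {W : Over S} (x : W ⟶ X) (π : QuotSt Scheme.fppfPrecoverage G aX ⥤ᵇ ofSch Y)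
    (hπ : BasedFunctor.comp (quotMap Scheme.fppfPrecoverage G aX) π = ofSpMap ((AlgSp.yon S).map f)) :
    pval π (triv Scheme.fppfPrecoverage aX x) = ⟨x ≫ f⟩ := by
  have h' := congrArg (fun Φ => pval Φ ((ofOverCat X).obj (Over.mk x))) hπ
  refine Eq.trans ?_ (h'.trans ?_)
  · rfl
  · show ((AlgSp.yon S).obj Y).obj.map (eqToHom rfl).op (((AlgSp.yon S).map f).hom.app (op W) ⟨x⟩) = _
    rw [eqToHom_refl, op_id, Functor.map_id_apply]
    rfl

theorem fibSec_eq {T : Over S} (A : (QuotObj.forget Scheme.fppfPrecoverage G aX).Fiber T) (σ : T ⟶ A.1.P)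
    (hσ : σ ≫ A.1.π = eqToHom A.2.symm) (π : QuotSt Scheme.fppfPrecoverage G aX ⥤ᵇ ofSch Y)
    (hπ : BasedFunctor.comp (quotMap Scheme.fppfPrecoverage G aX) π = ofSpMap ((AlgSp.yon S).map f)) :
    fibSec π A = ⟨(σ ≫ A.1.φ) ≫ f⟩ := by
  let α := homOfPt A.1 σ (x := σ ≫ A.1.φ) rfl
  have e := pval_nat π α
  rw [pval_triv _ π hπ] at e
  refine Eq.trans ?_ e
  show _ = ((AlgSp.yon S).obj Y).obj.map (σ ≫ A.1.π).op _
  rw [hσ]
  refine ((map_map (M := (AlgSp.yon S).obj Y) _ _ _).trans ?_).symm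
  unfold fibSec
  congr 2
  rw [eqToHom_trans]

theorem geomPtBij [Flat G.hom] [LocallyOfFinitePresentation G.hom]
    (horb : ∀ (Ω : Type u) [Field Ω] [IsAlgClosed Ω] (t : Spec (CommRingCat.of Ω) ⟶ S),
      (∀ y : Over.mk t ⟶ Y, ∃ x : Over.mk t ⟶ X, x ≫ f = y) ∧
      (∀ x x' : Over.mk t ⟶ X, x ≫ f = x' ≫ f → ∃ g : Over.mk t ⟶ G, lift g x' ≫ aX.act = x))
    (π : QuotSt Scheme.fppfPrecoverage G aX ⥤ᵇ ofSch Y)
    (hπ : BasedFunctor.comp (quotMap Scheme.fppfPrecoverage G aX) π = ofSpMap ((AlgSp.yon S).map f)) :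
    GeomPtBij π := by
  intro Ω _ _ t
  obtain ⟨hsurj, hinj⟩ := horb Ω t
  refine ⟨fun m => ?_, fun A B hAB => ?_⟩
  · obtain ⟨y⟩ := m
    obtain ⟨x, rfl⟩ := hsurj y
    refine ⟨⟨triv Scheme.fppfPrecoverage aX x, rfl⟩, ?_⟩
    refine (fibSec_eq (T := Over.mk t) (⟨triv Scheme.fppfPrecoverage aX x, rfl⟩ :
      (QuotObj.forget Scheme.fppfPrecoverage G aX).Fiber (Over.mk t)) (unitSec _) ?_ π hπ).trans ?_
    · exact unitSec_snd _
    · exact congrArg (fun z => ULift.up (z ≫ f)) (unitSec_whisker_act aX x)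
  · obtain ⟨tA, hA⟩ := exists_rational_pt A.1 A.2
    obtain ⟨tB, hB⟩ := exists_rational_pt B.1 B.2
    rw [fibSec_eq A tA hA π hπ, fibSec_eq B tB hB π hπ] at hAB
    obtain ⟨g, hg⟩ := hinj _ _ (congrArg ULift.down hAB).symm
    have hσ : (lift g tA ≫ A.1.act.act) ≫ A.1.φ = tB ≫ B.1.φ := by
      rw [Category.assoc, A.1.eqv, lift_whiskerLeft_assoc, hg]
    let α := homOfPt A.1 (lift g tA ≫ A.1.act.act) hσ
    let β := homOfPt B.1 tB (x := tB ≫ B.1.φ) rfl
    have hα : α.base = eqToHom A.2.symm := by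
      show (lift g tA ≫ A.1.act.act) ≫ A.1.π = _
      rw [Category.assoc, act_π, lift_snd_assoc, hA]
    have hβ : β.base = eqToHom B.2.symm := hB
    haveI : IsIso α.base := by rw [hα]; exact (eqToIso A.2.symm).isIso_hom
    haveI : IsIso β.base := by rw [hβ]; exact (eqToIso B.2.symm).isIso_hom
    haveI := isIso_of_isIso_base α
    haveI := isIso_of_isIso_base β
    have hbase : (inv α ≫ β).base = eqToHom A.2 ≫ eqToHom B.2.symm := by
      rw [AlgSt.QuotObj.comp_base, hβ]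
      congr 1
      have : α.base ≫ (inv α).base = 𝟙 _ := by rw [← AlgSt.QuotObj.comp_base, IsIso.hom_inv_id]; rfl
      rw [hα] at this
      have h' := congrArg (fun m => eqToHom A.2 ≫ m) this
      exact ((eqToHom_trans_assoc _ _ _).trans (Category.id_comp _)).symm.trans (h'.trans (Category.comp_id _))
    haveI hl : (AlgSt.QuotObj.forget Scheme.fppfPrecoverage G aX).IsHomLift (𝟙 (Over.mk t)) (inv α ≫ β) :=
      IsHomLift.of_fac' _ _ _ A.2 B.2 (by simpa [AlgSt.QuotObj.forget] using hbase)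
    haveI : (AlgSt.QuotObj.forget Scheme.fppfPrecoverage G aX).IsHomLift (𝟙 (Over.mk t)) (inv (inv α ≫ β)) :=
      IsHomLift.lift_id_inv_isIso _ _ _
    exact ⟨⟨⟨inv α ≫ β, inferInstance⟩, ⟨inv (inv α ≫ β), inferInstance⟩,
      Functor.Fiber.hom_ext (IsIso.hom_inv_id _), Functor.Fiber.hom_ext (IsIso.inv_hom_id _)⟩⟩

theorem isCoarseModuli_of_geomOrbits [Flat G.hom] [LocallyOfFinitePresentation G.hom]
    (horb : ∀ (Ω : Type u) [Field Ω] [IsAlgClosed Ω] (t : Spec (CommRingCat.of Ω) ⟶ S),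
      (∀ y : Over.mk t ⟶ Y, ∃ x : Over.mk t ⟶ X, x ≫ f = y) ∧
      (∀ x x' : Over.mk t ⟶ X, x ≫ f = x' ≫ f → ∃ g : Over.mk t ⟶ G, lift g x' ≫ aX.act = x))
    (hcat : ∀ (N : AlgSp.Space S) (ψ : (AlgSp.yon S).obj X ⟶ N.obj),
      (AlgSp.yon S).map aX.act ≫ ψ = (AlgSp.yon S).map (snd G X) ≫ ψ →
        ∃! χ : (AlgSp.yon S).obj Y ⟶ N.obj, (AlgSp.yon S).map f ≫ χ = ψ)
    (π : QuotSt Scheme.fppfPrecoverage G aX ⥤ᵇ ofSch Y)
    (hπ : Nonempty (BasedFunctor.comp (quotMap Scheme.fppfPrecoverage G aX) π ≅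
      ofSpMap ((AlgSp.yon S).map f))) : IsCoarseModuli π := by
  obtain ⟨i⟩ := hπ
  exact ⟨isCatModuli_of_isCatQuotSp hcat π (eq_of_iso i), geomPtBij horb π (eq_of_iso i)⟩

end Groth.Agent.Quot16
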