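import Groth.Agent.Lib.Quot16.Algebraic
import Groth.Agent.Lib.StAlg16.DiagIff
import Groth.Agent.Lib.AlgSpDescent.AffineFpqc

/-! The diagonal of `[X/G]`. -/

universe u

open CategoryTheory CategoryTheory.Limits MonoidalCategory CartesianMonoidalCategory MonObj GrpObj
  AlgebraicGeometry

set_option linter.style.haveILetI false
set_option linter.unusedSectionVars false
set_option backward.isDefEq.respectTransparency false
set_option backward.isDefEq.respectTransparency.types false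

namespace Groth.Agent.Quot16

open AlgSt
open FC16 hiding overMap
open StAlg

variable {S : Scheme.{u}} (X : Over S)

/-- points of a product as pairs -/
noncomputable def prodPair (A : ofSch X ⥤ᵇ FibCat.selfOver (Over S)) : ofSch (X ⊗ X) ⥤ᵇ FibCat.fp A A :=
  FibCat.fpLift (ofSpMap ((AlgSp.yon S).map (fst X X))) (ofSpMap ((AlgSp.yon S).map (snd X X)))
    (eqToIso (selfOver_functor_eq _ _))

theorem prodPair_isEquivOver (A : ofSch X ⥤ᵇ FibCat.selfOver (Over S)) : FibCat.IsEquivOver (prodPair X A) := by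
  haveI : (prodPair X A).toFunctor.Faithful := ⟨fun {z z' g g'} h => by
    have h1 := congrArg (fun q => q.hom.fst.hom) h
    exact Stk.EltObj.hom_ext h1⟩
  haveI : (prodPair X A).toFunctor.Full := ⟨fun {z z'} θ => by
    have hg2 : θ.hom.snd.hom = θ.hom.fst.hom := by
      haveI := FibCat.fp_isHomLift_snd A A θ
      have := IsHomLift.fac' (ofSch X).p ((FibCat.fp A A).p.map θ) θ.hom.snd
      simp at this
      exact this
    obtain ⟨g, hg⟩ : ∃ g : z.base ⟶ z'.base, g = θ.hom.fst.hom := ⟨_, rfl⟩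
    have w1 : g ≫ z'.sec.down ≫ fst X X = z.sec.down ≫ fst X X :=
      hg ▸ congrArg ULift.down θ.hom.fst.map_sec
    have w2 : g ≫ z'.sec.down ≫ snd X X = z.sec.down ≫ snd X X :=
      hg ▸ hg2 ▸ congrArg ULift.down θ.hom.snd.map_sec
    have hp : g ≫ z'.sec.down = z.sec.down := by
      apply CartesianMonoidalCategory.hom_ext
      · rw [Category.assoc]; exact w1
      · rw [Category.assoc]; exact w2
    refine ⟨⟨g, congrArg ULift.up hp⟩, ?_⟩
    exact fp_hom_ext (Stk.EltObj.hom_ext hg) (Stk.EltObj.hom_ext (hg.trans hg2.symm))⟩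
  refine isEquivOver_of _ fun z => ?_
  obtain ⟨⟨⟨T, ⟨x⟩⟩, ⟨T', ⟨x'⟩⟩, j⟩, hj⟩ := z
  have hT : T' = T := (FibCat.fpSnd A A).w_obj ⟨⟨⟨T, ⟨x⟩⟩, ⟨T', ⟨x'⟩⟩, j⟩, hj⟩
  subst hT
  let ξ : (ofSch (X ⊗ X)).obj := ⟨T', ⟨lift x x'⟩⟩
  have e1 : lift x x' ≫ fst X X = x := lift_fst _ _
  have e2 : lift x x' ≫ snd X X = x' := lift_snd _ _
  let i1 : (ofSpMap ((AlgSp.yon S).map (fst X X))).obj ξ ≅ (⟨T', ⟨x⟩⟩ : (ofSch X).obj) :=
    { hom := ⟨𝟙 T', congrArg ULift.up ((Category.id_comp x).trans e1.symm)⟩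
      inv := ⟨𝟙 T', congrArg ULift.up ((Category.id_comp (lift x x' ≫ fst X X)).trans e1)⟩
      hom_inv_id := Stk.EltObj.hom_ext (Category.id_comp _)
      inv_hom_id := Stk.EltObj.hom_ext (Category.id_comp _) }
  let i2 : (ofSpMap ((AlgSp.yon S).map (snd X X))).obj ξ ≅ (⟨T', ⟨x'⟩⟩ : (ofSch X).obj) :=
    { hom := ⟨𝟙 T', congrArg ULift.up ((Category.id_comp x').trans e2.symm)⟩
      inv := ⟨𝟙 T', congrArg ULift.up ((Category.id_comp (lift x x' ≫ snd X X)).trans e2)⟩
      hom_inv_id := Stk.EltObj.hom_ext (Category.id_comp _)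
      inv_hom_id := Stk.EltObj.hom_ext (Category.id_comp _) }
  let z₀ : (FibCat.fp A A).obj := ⟨⟨⟨T', ⟨x⟩⟩, ⟨T', ⟨x'⟩⟩, j⟩, hj⟩
  let w : ((prodPair X A).obj ξ).obj.fst ⟶ z₀.obj.fst := i1.hom
  haveI : (ofSch X).p.IsHomLift (𝟙 T') i1.hom := IsHomLift.map (ofSch X).p i1.hom
  haveI : (ofSch X).p.IsHomLift (𝟙 T') i2.hom := IsHomLift.map (ofSch X).p i2.hom
  have hw : A.map i1.hom ≫ j.hom = ((prodPair X A).obj ξ).obj.iso.hom ≫ A.map i2.hom := by
    haveI := hj
    haveI := BasedFunctor.preserves_isHomLift A (𝟙 T') i1.hom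
    haveI := BasedFunctor.preserves_isHomLift A (𝟙 T') i2.hom
    haveI := iso_lift ((prodPair X A).obj ξ) (U := T') rfl
    have l1 : (FibCat.selfOver (Over S)).p.IsHomLift (𝟙 T' ≫ 𝟙 T') (A.map i1.hom ≫ j.hom) :=
      @IsHomLift.comp _ _ _ _ (FibCat.selfOver (Over S)).p _ _ _ _ _ _ _ _ _ _
        (BasedFunctor.preserves_isHomLift A (𝟙 T') i1.hom) hj
    have l2 : (FibCat.selfOver (Over S)).p.IsHomLift (𝟙 T' ≫ 𝟙 T')
        (((prodPair X A).obj ξ).obj.iso.hom ≫ A.map i2.hom) :=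
      @IsHomLift.comp _ _ _ _ (FibCat.selfOver (Over S)).p _ _ _ _ _ _ _ _ _ _
        (iso_lift ((prodPair X A).obj ξ) (U := T') rfl) (BasedFunctor.preserves_isHomLift A (𝟙 T') i2.hom)
    exact @selfOver_hom_ext _ _ _ _ _ _ (𝟙 T' ≫ 𝟙 T') _ _ l1 l2
  let d : (prodPair X A).obj ξ ≅ z₀ := fpIsoMk (x := (prodPair X A).obj ξ) (y := z₀) i1 i2 hw
  refine ⟨ξ, d, ?_⟩
  haveI : (ofSch X).p.IsHomLift (𝟙 T') d.hom.hom.fst := IsHomLift.map (ofSch X).p i1.hom
  exact isHomLift_of_fst (𝟙 T') d.hom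

variable {X} {G : Over S} [GrpObj G] {aX : AlgGrp.Action G X}

theorem pbP_isAffineMor : PbP (S := S) AlgSp.IsAffineMor := by
  intro X₁ Y₁ X₂ Y₂ h₁ h₂ h₃ h₄ a b a' b' sq h
  rw [AlgSpace.isAffineMor_iff_repWith] at h ⊢
  exact StAlg16.pbP_repWith h₁ h₂ h₃ h₄ a b a' b' sq h

omit [GrpObj G] in
theorem isAffineHom_lift_act_snd [IsAffineHom G.hom] (hX : IsAffineHom (pullback.diagonal X.hom))
    (a : G ⊗ X ⟶ X) : IsAffineHom (lift a (snd G X)).left := by
  haveI : IsAffineHom (snd G X).left := snd_left_prop (P := @IsAffineHom) ‹_› X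
  have hd : MorphismProperty.diagonal @IsAffineHom X.hom := hX
  have h2 : MorphismProperty.diagonal @IsAffineHom (snd X X).left :=
    MorphismProperty.of_isPullback (isPullback_left_unit (G := X) X) hd
  haveI : IsAffineHom (pullback.diagonal (snd X X).left) := h2
  have h : IsAffineHom ((lift a (snd G X)).left ≫ (snd X X).left) := by
    rw [← Over.comp_left, lift_snd]; infer_instance
  haveI : MorphismProperty.HasOfPostcompProperty @IsAffineHom.{u} (MorphismProperty.diagonal @IsAffineHom) :=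
    MorphismProperty.hasOfPostcompProperty_iff_le_diagonal.2 le_rfl
  exact MorphismProperty.of_postcomp (W := @IsAffineHom) (W' := MorphismProperty.diagonal @IsAffineHom)
    _ _ h2 h

theorem repWith_affine_diag_etale [Smooth G.hom] [IsAffineHom G.hom] (hX : IsAffineHom (pullback.diagonal X.hom)) :
    RepByAlgSpWith AlgSp.IsAffineMor
      (FibCat.diag (FibCat.toSelf (QuotSt Scheme.etalePrecoverage G aX))) := by
  have hK := etale_le_fpqc.{u}
  let Q := quotMap Scheme.etalePrecoverage G aX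
  have h𝒳 := isAlgStack_quotSt_etale (G := G) (aX := aX)
  have hg := h𝒳.isStack.1
  have hz : FibCat.IsFibGrpd (ofSch X).p := Stk.isFibGrpd_ofPsh _
  have hs : RepByAlgSpWith (AlgSp.LocP @Smooth) Q :=
    StAlg16.with_comp_equiv (a := toOverCat X) (g := chartMap Scheme.etalePrecoverage aX)
      ⟨ofOverCat X, ⟨Iso.refl _⟩, ⟨Iso.refl _⟩⟩ (repWith_chartMap_smooth' hK)
  have hw₃ : RepByAlgSpWith AlgSp.IsSurjectiveMor Q :=
    StAlg16.with_comp_equiv (a := toOverCat X) (g := chartMap Scheme.etalePrecoverage aX)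
      ⟨ofOverCat X, ⟨Iso.refl _⟩, ⟨Iso.refl _⟩⟩ (repWith_chartMap_surjective' hK)
  have hw₁ := with_locP_mono smooth_le_flat hs
  have hw₂ := with_locP_mono smooth_le_lfp hs
  let t := FibCat.toSelf (QuotSt Scheme.etalePrecoverage G aX)
  refine with_of_fpFst_cover (z := pair (Iso.refl (BasedFunctor.comp Q t)) (Iso.refl (BasedFunctor.comp Q t)))
    pbP_isAffineMor (isLocalOnBase_fppf_of_fpqc AlgSpDescent.isLocalOnBase_fpqc_isAffineMor) hg
    (fp_isFibGrpd hg hg selfOver_isFibGrpd _ _) (fp_isFibGrpd hz hz selfOver_isFibGrpd _ _) h𝒳.diag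
    (with_fp_map_gen goodP_locP hg selfOver_isFibGrpd t t hz hz hw₁ hw₁)
    (with_fp_map_gen goodP_locP hg selfOver_isFibGrpd t t hz hz hw₂ hw₂)
    (with_fp_map_gen goodP_surjective hg selfOver_isFibGrpd t t hz hz hw₃ hw₃)
    ((with_cmp_iff (f := Q) (g := Q) (t := t) (wrIso (FibCat.fpIso Q Q) t) (fun _ => rfl)).2 ?_)
  obtain ⟨e, he⟩ := exists_isTwoCartOver_act (K := Scheme.etalePrecoverage) G X aX
  let E₀ := FibCat.fpLift (ofSpMap ((AlgSp.yon S).map aX.act)) (ofSpMap ((AlgSp.yon S).map (snd G X))) e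
  let h := (AlgSp.yon S).map (lift aX.act (snd G X))
  let C := FibCat.fpLift (F := BasedFunctor.comp Q t) (G := BasedFunctor.comp Q t) (FibCat.fpFst Q Q) (FibCat.fpSnd Q Q) (wrIso (FibCat.fpIso Q Q) t)
  have hh : RepByAlgSpWith AlgSp.IsAffineMor (Stk.ofPshMap h.hom) :=
    with_ofPshMap (repBySpWith_of_space pbP_isAffineMor (AlgSp.IsAlgSpace.yon_obj _) (AlgSp.IsAlgSpace.yon_obj _)
      (AlgSpace.isAffineMor_iff_repWith.2 ((AlgSp.repWith_yon_map_iff @IsAffineHom _).2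
        (isAffineHom_lift_act_snd hX aX.act))))
  let Pr := prodPair X (BasedFunctor.comp Q t)
  let i : BasedFunctor.comp (Stk.ofPshMap h.hom) Pr ≅ BasedFunctor.comp E₀ C :=
    isoToFp (A := BasedFunctor.comp (Stk.ofPshMap h.hom) Pr) (B := BasedFunctor.comp E₀ C)
      (isoOfPval fun x => by
        simp only [pval]
        congr 1
        apply ULift.ext
        show (x.sec.down ≫ lift aX.act (snd G X)) ≫ fst X X = x.sec.down ≫ aX.act
        rw [Category.assoc, lift_fst])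
      (isoOfPval fun x => by
        simp only [pval]
        congr 1
        apply ULift.ext
        show (x.sec.down ≫ lift aX.act (snd G X)) ≫ snd X X = x.sec.down ≫ snd G X
        rw [Category.assoc, lift_snd])
  exact (with_congr (f := C) (f' := Stk.ofPshMap h.hom) (a := E₀) (b := Pr) he (prodPair_isEquivOver X _) i).2 hh

end Groth.Agent.Quot16
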