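import Groth.Agent.Lib.Quot16.Prestack
import Groth.Agent.Lib.SchDesc12.Effective
import Groth.Agent.Lib.GrpQuot.SubDescFam

/-! Descent data of torsors with affine structure morphisms are effective. -/

universe u

open CategoryTheory CategoryTheory.Limits MonoidalCategory CartesianMonoidalCategory MonObj GrpObj
  AlgebraicGeometry

set_option linter.style.haveILetI false
set_option linter.unusedSectionVars false
set_option backward.isDefEq.respectTransparency false
set_option backward.isDefEq.respectTransparency.types false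

namespace Groth.Agent.Quot16

open AlgSt

variable {S : Scheme.{u}} {K : Precoverage Scheme.{u}} {G : Over S} [GrpObj G] {X : Over S}
  {aX : AlgGrp.Action G X}

lemma top_map {U : Over S} {R : Sieve U} (t : Stk.sieveCat R ⥤ᵇ QuotSt K G aX) {a b c : Ix R}
    (m : a ⟶ b) (n : b ⟶ c) : (t.map (m ≫ n)).top = (t.map m).top ≫ (t.map n).top :=
  congrArg QuotObj.Hom.top (t.toFunctor.map_comp m n)

lemma loc_cast (A : QuotObj K G aX) {V : Over S} (h : A.base = V) :
    NonAbH1.IsLocallyTrivialFor K (Over.mk (A.π ≫ eqToHom h).left : Over V.left) := by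
  subst h
  simpa using A.loc

section Family

variable {U : Over S} {J : Type u} {Z : J → Scheme.{u}} (f : ∀ i, Z i ⟶ U.left)

/-- a member of the covering over `S` -/
abbrev mem (i : J) : Over S := Over.mk (f i ≫ U.hom)

/-- the arrow of a member -/
abbrev memHom (i : J) : mem f i ⟶ U := Over.homMk (f i) rfl

/-- the sieve generated by the family -/
abbrev famSieve : Sieve U := Sieve.ofArrows (mem f) (memHom f)

/-- the member as an object of the sieve -/
def aObj (i : J) : Ix (famSieve f) := ⟨Over.mk (memHom f i), Sieve.ofArrows_mk _ _ i⟩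

variable (t : Stk.sieveCat (famSieve f) ⥤ᵇ QuotSt K G aX)

/-- two points are related by the descent datum -/
def Rel {T : Scheme.{u}} {i j : J} (x₀ : T ⟶ Z i) (x₁ : T ⟶ Z j)
    (v : T ⟶ (t.obj (aObj f i)).P.left) (v' : T ⟶ (t.obj (aObj f j)).P.left) : Prop :=
  ∀ (c : Ix (famSieve f)) (g : c.obj.left.left ⟶ T) (m₀ : c ⟶ aObj f i) (m₁ : c ⟶ aObj f j),
    m₀.hom.left.left = g ≫ x₀ → m₁.hom.left.left = g ≫ x₁ →
    ∀ σ : c.obj.left ⟶ (t.obj c).P, σ ≫ datπ t c = 𝟙 _ →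
      (σ ≫ (t.map m₀).top).left = g ≫ v → (σ ≫ (t.map m₁).top).left = g ≫ v'

lemma existsUnique_rel {T : Scheme.{u}} {i j : J} (x₀ : T ⟶ Z i) (x₁ : T ⟶ Z j) (h : x₀ ≫ f i = x₁ ≫ f j)
    (v : T ⟶ (t.obj (aObj f i)).P.left) (hv : v ≫ (datπ t (aObj f i)).left = x₀) :
    ∃! v' : T ⟶ (t.obj (aObj f j)).P.left,
      v' ≫ (datπ t (aObj f j)).left = x₁ ∧ Rel f t x₀ x₁ v v' := by
  let W : Over S := Over.mk (x₀ ≫ f i ≫ U.hom)
  let k₀ : W ⟶ mem f i := Over.homMk x₀ rfl
  let k₁ : W ⟶ mem f j := Over.homMk x₁ (by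
    show x₁ ≫ f j ≫ U.hom = x₀ ≫ f i ≫ U.hom
    rw [reassoc_of% h])
  have hk : k₀ ≫ memHom f i = k₁ ≫ memHom f j := Over.OverMorphism.ext h
  let c : Ix (famSieve f) :=
    ⟨Over.mk (k₀ ≫ memHom f i), (famSieve f).downward_closed (Sieve.ofArrows_mk _ _ i) k₀⟩
  let m₀ : c ⟶ aObj f i := ObjectProperty.homMk (Over.homMk k₀ rfl)
  let m₁ : c ⟶ aObj f j := ObjectProperty.homMk (Over.homMk k₁ hk.symm)
  let vv : W ⟶ (t.obj (aObj f i)).P := Over.homMk v (by
    rw [← Over.w (datπ t (aObj f i)), ← Category.assoc, hv]; rfl)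
  have hvv : vv ≫ datπ t (aObj f i) = 𝟙 W ≫ m₀.hom.left :=
    Over.OverMorphism.ext (hv.trans (Category.id_comp _).symm)
  let σ₀ : W ⟶ (t.obj c).P := (sq_map t m₀).lift vv (𝟙 W) hvv
  have h1 : σ₀ ≫ (t.map m₀).top = vv := (sq_map t m₀).lift_fst _ _ _
  have h2 : σ₀ ≫ datπ t c = 𝟙 W := (sq_map t m₀).lift_snd _ _ _
  refine ⟨(σ₀ ≫ (t.map m₁).top).left, ⟨?_, ?_⟩, ?_⟩
  · rw [← Over.comp_left, Category.assoc, (sq_map t m₁).w, ← Category.assoc, h2, Category.id_comp]
    rfl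
  · intro c' g n₀ n₁ hn₀ hn₁ σ hσ hσv
    let kg : c'.obj.left ⟶ W := Over.homMk g (by
      show g ≫ x₀ ≫ f i ≫ U.hom = c'.obj.left.hom
      rw [← Category.assoc, ← hn₀]
      exact Over.w n₀.hom.left)
    have hkg₀ : kg ≫ k₀ = n₀.hom.left := Over.OverMorphism.ext hn₀.symm
    have hkg₁ : kg ≫ k₁ = n₁.hom.left := Over.OverMorphism.ext hn₁.symm
    let n : c' ⟶ c := ObjectProperty.homMk (Over.homMk kg (by
      show kg ≫ k₀ ≫ memHom f i = c'.obj.hom
      rw [← Category.assoc, hkg₀]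
      exact Over.w n₀.hom))
    have e₀ : n ≫ m₀ = n₀ := ObjectProperty.hom_ext _ (Over.OverMorphism.ext hkg₀)
    have e₁ : n ≫ m₁ = n₁ := ObjectProperty.hom_ext _ (Over.OverMorphism.ext hkg₁)
    have key : σ ≫ (t.map n).top = kg ≫ σ₀ := by
      apply (sq_map t m₀).hom_ext
      · rw [Category.assoc, ← top_map, e₀, Category.assoc, h1]
        exact Over.OverMorphism.ext hσv
      · rw [Category.assoc, (sq_map t n).w, ← Category.assoc, hσ, Category.id_comp, Category.assoc, h2]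
        exact (Category.comp_id kg).symm
    rw [← e₁, top_map, ← Category.assoc, key, Category.assoc]
    rfl
  · rintro v' ⟨-, hr⟩
    have := hr c (𝟙 T) m₀ m₁ (Category.id_comp x₀).symm (Category.id_comp x₁).symm σ₀ h2
      ((congrArg (fun q => q.left) h1).trans (Category.id_comp v).symm)
    exact ((this.trans (Category.id_comp v')).symm)

/-- the translation of points -/
noncomputable def trans {T : Scheme.{u}} {i j : J} (x₀ : T ⟶ Z i) (x₁ : T ⟶ Z j) (h : x₀ ≫ f i = x₁ ≫ f j)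
    (v : Desc.Lifts (Over.mk (datπ t (aObj f i)).left : Over (Z i)) x₀) :
    Desc.Lifts (Over.mk (datπ t (aObj f j)).left : Over (Z j)) x₁ :=
  ⟨(existsUnique_rel f t x₀ x₁ h v.1 v.2).choose, (existsUnique_rel f t x₀ x₁ h v.1 v.2).choose_spec.1.1⟩

lemma trans_rel {T : Scheme.{u}} {i j : J} (x₀ : T ⟶ Z i) (x₁ : T ⟶ Z j) (h : x₀ ≫ f i = x₁ ≫ f j)
    (v : Desc.Lifts (Over.mk (datπ t (aObj f i)).left : Over (Z i)) x₀) :
    Rel f t x₀ x₁ v.1 (trans f t x₀ x₁ h v).1 :=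
  (existsUnique_rel f t x₀ x₁ h v.1 v.2).choose_spec.1.2

lemma eq_trans {T : Scheme.{u}} {i j : J} (x₀ : T ⟶ Z i) (x₁ : T ⟶ Z j) (h : x₀ ≫ f i = x₁ ≫ f j)
    (v : Desc.Lifts (Over.mk (datπ t (aObj f i)).left : Over (Z i)) x₀)
    (v' : T ⟶ (t.obj (aObj f j)).P.left) (h' : v' ≫ (datπ t (aObj f j)).left = x₁)
    (hr : Rel f t x₀ x₁ v.1 v') : v' = (trans f t x₀ x₁ h v).1 :=
  (existsUnique_rel f t x₀ x₁ h v.1 v.2).choose_spec.2 v' ⟨h', hr⟩

lemma trans_self {T : Scheme.{u}} {i : J} (x : T ⟶ Z i)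
    (v : Desc.Lifts (Over.mk (datπ t (aObj f i)).left : Over (Z i)) x) : trans f t x x rfl v = v := by
  refine Subtype.ext (eq_trans f t x x rfl v v.1 v.2 ?_).symm
  intro c g m₀ m₁ h₀ h₁ σ _ hσv
  have e : m₁ = m₀ := ObjectProperty.hom_ext _ (Over.OverMorphism.ext (Over.OverMorphism.ext (h₁.trans h₀.symm)))
  rw [e]; exact hσv

lemma trans_comp {T : Scheme.{u}} {i j k : J} (x₀ : T ⟶ Z i) (x₁ : T ⟶ Z j) (x₂ : T ⟶ Z k)
    (h₀₁ : x₀ ≫ f i = x₁ ≫ f j) (h₁₂ : x₁ ≫ f j = x₂ ≫ f k)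
    (v : Desc.Lifts (Over.mk (datπ t (aObj f i)).left : Over (Z i)) x₀) :
    trans f t x₁ x₂ h₁₂ (trans f t x₀ x₁ h₀₁ v) = trans f t x₀ x₂ (h₀₁.trans h₁₂) v := by
  refine Subtype.ext (eq_trans f t x₀ x₂ _ v _ (trans f t x₁ x₂ h₁₂ _).2 ?_)
  intro c g m₀ m₂ h₀ h₂ σ hσ hσv
  have e0 : m₀.hom.left ≫ memHom f i = c.obj.hom := Over.w m₀.hom
  let k₁ : c.obj.left ⟶ mem f j := Over.homMk (g ≫ x₁) (by
    show (g ≫ x₁) ≫ f j ≫ U.hom = c.obj.left.hom
    rw [← Over.w m₀.hom.left, h₀, Category.assoc, Category.assoc, ← reassoc_of% h₀₁]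
    rfl)
  let m₁ : c ⟶ aObj f j := ObjectProperty.homMk (Over.homMk k₁ (by
    show k₁ ≫ memHom f j = c.obj.hom
    rw [← e0]
    apply Over.OverMorphism.ext
    show (g ≫ x₁) ≫ f j = m₀.hom.left.left ≫ f i
    rw [h₀, Category.assoc, Category.assoc, h₀₁]))
  exact trans_rel f t x₁ x₂ h₁₂ _ c g m₁ m₂ rfl h₂ σ hσ
    (trans_rel f t x₀ x₁ h₀₁ v c g m₀ m₁ h₀ rfl σ hσ hσv)

lemma trans_natural {T T' : Scheme.{u}} (g : T' ⟶ T) {i j : J} (x₀ : T ⟶ Z i) (x₁ : T ⟶ Z j)
    (h : x₀ ≫ f i = x₁ ≫ f j) (y₀ : T' ⟶ Z i) (y₁ : T' ⟶ Z j) (h₀ : g ≫ x₀ = y₀) (h₁ : g ≫ x₁ = y₁)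
    (h' : y₀ ≫ f i = y₁ ≫ f j) (v : Desc.Lifts (Over.mk (datπ t (aObj f i)).left : Over (Z i)) x₀)
    (v' : Desc.Lifts (Over.mk (datπ t (aObj f i)).left : Over (Z i)) y₀) (hv : v'.1 = g ≫ v.1) :
    (trans f t y₀ y₁ h' v').1 = g ≫ (trans f t x₀ x₁ h v).1 := by
  refine (eq_trans f t y₀ y₁ h' v' _ ?_ ?_).symm
  · rw [Category.assoc]
    exact (congrArg (fun q => g ≫ q) (trans f t x₀ x₁ h v).2).trans h₁
  · intro c g' m₀ m₁ e₀ e₁ σ hσ hσv
    rw [← Category.assoc]
    refine trans_rel f t x₀ x₁ h v c (g' ≫ g) m₀ m₁ ?_ ?_ σ hσ ?_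
    · rw [e₀, ← h₀, Category.assoc]
    · rw [e₁, ← h₁, Category.assoc]
    · rw [hσv, hv, Category.assoc]

/-- the descent datum of schemes of a descent datum of torsors -/
noncomputable def schDD : Desc.SchDDFam f where
  obj i := Over.mk (datπ t (aObj f i)).left
  φ T i j x₀ x₁ h :=
    { toFun := trans f t x₀ x₁ h
      invFun := trans f t x₁ x₀ h.symm
      left_inv := fun v => (trans_comp f t x₀ x₁ x₀ h h.symm v).trans (trans_self f t x₀ v)
      right_inv := fun v => (trans_comp f t x₁ x₀ x₁ h.symm h v).trans (trans_self f t x₁ v) }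
  φ_natural T T' g i j x₀ x₁ h y₀ y₁ h₀ h₁ h' v v' hv :=
    trans_natural f t g x₀ x₁ h y₀ y₁ h₀ h₁ h' v v' hv
  φ_self T i x v := trans_self f t x v
  φ_comp T i j k x₀ x₁ x₂ h₀₁ h₁₂ v := trans_comp f t x₀ x₁ x₂ h₀₁ h₁₂ v

theorem exists_glued (hf : Presieve.ofArrows Z f ∈ Scheme.fpqcPrecoverage U.left)
    (ha : ∀ i, IsAffineHom (datπ t (aObj f i)).left) :
    ∃ (P : Over S) (p : P ⟶ U) (q : ∀ c, (t.obj c).P ⟶ P),
      (∀ {a b : Ix (famSieve f)} (g : a ⟶ b), (t.map g).top ≫ q b = q a) ∧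
      (∀ c, IsPullback (q c) (datπ t c) p c.obj.hom) := by
  obtain ⟨P₀, ⟨e⟩⟩ := Groth.Agent.SchDesc12.isEffective_of_isAffineHom (D := schDD f t) hf ha
  let P : Over S := Over.mk (P₀.hom ≫ U.hom)
  let p : P ⟶ U := Over.homMk P₀.hom rfl
  let E : ∀ i, ((Desc.toDDFam f).obj P₀).obj i ≅ (schDD f t).obj i := fun i =>
    { hom := e.hom.hom i
      inv := e.inv.hom i
      hom_inv_id := congrArg (fun q => q.hom i) e.hom_inv_id
      inv_hom_id := congrArg (fun q => q.hom i) e.inv_hom_id }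
  let q₀ : ∀ i, (t.obj (aObj f i)).P.left ⟶ P₀.left := fun i =>
    (E i).inv.left ≫ pullback.snd (f i) P₀.hom
  have sq₀ : ∀ i, IsPullback (q₀ i) (datπ t (aObj f i)).left P₀.hom (f i) := fun i => by
    let e' := (Over.forget (Z i)).mapIso (E i)
    refine ((IsPullback.of_hasPullback (f i) P₀.hom).flip).of_iso e' (Iso.refl _) (Iso.refl _)
      (Iso.refl _) ?_ ?_ ?_ ?_
    · show pullback.snd (f i) P₀.hom ≫ 𝟙 _ = (E i).hom.left ≫ (E i).inv.left ≫ pullback.snd _ _
      rw [← Category.assoc, ← Over.comp_left, Iso.hom_inv_id, Category.comp_id]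
      exact (Category.id_comp _).symm
    · show pullback.fst (f i) P₀.hom ≫ 𝟙 _ = (E i).hom.left ≫ ((schDD f t).obj i).hom
      rw [Category.comp_id]
      exact (Over.w (E i).hom).symm
    · simp
    · simp
  have comp₀ : ∀ {T : Scheme.{u}} {i j : J} (x₀ : T ⟶ Z i) (x₁ : T ⟶ Z j) (h : x₀ ≫ f i = x₁ ≫ f j)
      (v : Desc.Lifts ((schDD f t).obj i) x₀), v.1 ≫ q₀ i = (trans f t x₀ x₁ h v).1 ≫ q₀ j := by
    intro T i j x₀ x₁ h v
    let w : Desc.Lifts (((Desc.toDDFam f).obj P₀).obj i) x₀ :=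
      ⟨v.1 ≫ (E i).inv.left, by rw [Category.assoc, Over.w (E i).inv]; exact v.2⟩
    have hc : (((Desc.toDDFam f).obj P₀).φ x₀ x₁ h w).1 = (trans f t x₀ x₁ h v).1 ≫ (E j).inv.left :=
      e.inv.comm x₀ x₁ h v w rfl
    show v.1 ≫ (E i).inv.left ≫ pullback.snd (f i) P₀.hom =
      (trans f t x₀ x₁ h v).1 ≫ (E j).inv.left ≫ pullback.snd (f j) P₀.hom
    rw [← Category.assoc (trans f t x₀ x₁ h v).1, ← hc]
    exact ((pullback.lift_snd _ _ _).trans (Category.assoc _ _ _)).symm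
  let q : ∀ i, (t.obj (aObj f i)).P ⟶ P := fun i => Over.homMk (q₀ i) (by
    show q₀ i ≫ P₀.hom ≫ U.hom = (t.obj (aObj f i)).P.hom
    rw [← Category.assoc, (sq₀ i).w, Category.assoc]
    exact Over.w (datπ t (aObj f i)))
  have sq : ∀ i, IsPullback (q i) (datπ t (aObj f i)) p (aObj f i).obj.hom := fun i =>
    IsPullback.of_map (Over.forget S) (Over.OverMorphism.ext (sq₀ i).w) (sq₀ i)
  have indep : ∀ (c : Ix (famSieve f)) (i j : J) (m : c ⟶ aObj f i) (m' : c ⟶ aObj f j),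
      (t.map m).top ≫ q i = (t.map m').top ≫ q j := by
    intro c i j m m'
    let c' : Ix (famSieve f) :=
      ⟨Over.mk (datπ t c ≫ c.obj.hom), (famSieve f).downward_closed c.property _⟩
    let n : c' ⟶ c := ObjectProperty.homMk (Over.homMk (datπ t c) rfl)
    let σ : (t.obj c).P ⟶ (t.obj c').P := (sq_map t n).lift (𝟙 _) (𝟙 _) (by
      rw [Category.id_comp]; exact (Category.id_comp (datπ t c)).symm)
    have s1 : σ ≫ (t.map n).top = 𝟙 _ := (sq_map t n).lift_fst _ _ _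
    have s2 : σ ≫ datπ t c' = 𝟙 _ := (sq_map t n).lift_snd _ _ _
    let x₀ : (t.obj c).P.left ⟶ Z i := (datπ t c ≫ m.hom.left).left
    let x₁ : (t.obj c).P.left ⟶ Z j := (datπ t c ≫ m'.hom.left).left
    have hx : x₀ ≫ f i = x₁ ≫ f j := by
      have h₁ : m.hom.left ≫ memHom f i = c.obj.hom := Over.w m.hom
      have h₂ : m'.hom.left ≫ memHom f j = c.obj.hom := Over.w m'.hom
      show ((datπ t c ≫ m.hom.left) ≫ memHom f i).left = ((datπ t c ≫ m'.hom.left) ≫ memHom f j).left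
      rw [Category.assoc, Category.assoc, h₁, h₂]
    let v : Desc.Lifts ((schDD f t).obj i) x₀ := ⟨(t.map m).top.left,
      congrArg (fun q => q.left) (sq_map t m).w⟩
    have hr := trans_rel f t x₀ x₁ hx v c' (𝟙 _) (n ≫ m) (n ≫ m')
      (Category.id_comp x₀).symm (Category.id_comp x₁).symm σ s2
      (by
        refine Eq.trans ?_ (Category.id_comp _).symm
        rw [top_map, ← Category.assoc, s1]; exact congrArg (fun q : (t.obj c).P ⟶ _ => q.left) (Category.id_comp (t.map m).top))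
    have hr' : (t.map m').top.left = (trans f t x₀ x₁ hx v).1 := by
      refine Eq.trans ?_ (hr.trans (Category.id_comp _))
      rw [top_map, ← Category.assoc, s1]; exact (congrArg (fun q : (t.obj c).P ⟶ _ => q.left) (Category.id_comp (t.map m').top)).symm
    apply Over.OverMorphism.ext
    show (t.map m).top.left ≫ q₀ i = (t.map m').top.left ≫ q₀ j
    rw [hr']
    exact comp₀ x₀ x₁ hx v
  have hm : ∀ c : Ix (famSieve f), ∃ i, Nonempty (c ⟶ aObj f i) := fun c => by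
    obtain ⟨W, a, b, ⟨i⟩, hab⟩ := c.property
    exact ⟨i, ⟨ObjectProperty.homMk (Over.homMk a hab)⟩⟩
  choose idx m using hm
  refine ⟨P, p, fun c => (t.map (m c).some).top ≫ q (idx c), fun {a b} g => ?_, fun c => ?_⟩
  · show (t.map g).top ≫ (t.map (m b).some).top ≫ q (idx b) = (t.map (m a).some).top ≫ q (idx a)
    rw [← Category.assoc, ← top_map]
    exact indep a _ _ _ _
  · have := (sq_map t (m c).some).paste_horiz (sq (idx c))
    rwa [show (m c).some.hom.left ≫ (aObj f (idx c)).obj.hom = c.obj.hom from Over.w (m c).some.hom] at this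

theorem exists_cocone [K.IsStableUnderComposition] (hK : K ≤ Scheme.fpqcPrecoverage)
    (hf : Presieve.ofArrows Z f ∈ K U.left) (hG : Glues (famSieve f))
    (ha : ∀ i, IsAffineHom (datπ t (aObj f i)).left) : Nonempty (Cocone t) := by
  obtain ⟨P, p, q, nat, sq⟩ := exists_glued f t (hK _ hf) ha
  let 𝒬 : CartFam (famSieve f) P p :=
    { Q := fun c => (t.obj c).P
      π := datπ t
      tr := fun g => (t.map g).top
      tr_π := fun g => (sq_map t g).w
      q := q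
      nat := nat
      sq := sq }
  obtain ⟨act, hact⟩ := (tensorFam 𝒬 G).exists_desc hG (fun c => (t.obj c).act.act ≫ q c)
    (fun {a b} g => by
      show (G ◁ (t.map g).top) ≫ (t.obj b).act.act ≫ q b = (t.obj a).act.act ≫ q a
      rw [← Category.assoc, ← (t.map g).eqv, Category.assoc, nat])
  have hact' : ∀ c, (G ◁ q c) ≫ act = (t.obj c).act.act ≫ q c := hact
  obtain ⟨φ, hφ⟩ := 𝒬.exists_desc hG (fun c => (t.obj c).φ) (fun g => (t.map g).wφ)
  have hφ' : ∀ c, q c ≫ φ = (t.obj c).φ := hφ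
  let a : AlgGrp.Action G P :=
    { act := act
      one_act := (tensorFam 𝒬 (𝟙_ (Over S))).desc_ext hG fun c => by
        show (𝟙_ (Over S) ◁ q c) ≫ (η[G] ▷ P) ≫ act = (𝟙_ (Over S) ◁ q c) ≫ (λ_ P).hom
        rw [← Category.assoc, whisker_exchange, Category.assoc, hact', ← Category.assoc,
          (t.obj c).act.one_act, leftUnitor_naturality]
      mul_act := (tensorFam 𝒬 (G ⊗ G)).desc_ext hG fun c => by
        show ((G ⊗ G) ◁ q c) ≫ (μ[G] ▷ P) ≫ act =
          ((G ⊗ G) ◁ q c) ≫ (α_ G G P).hom ≫ (G ◁ act) ≫ act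
        rw [← Category.assoc, whisker_exchange, Category.assoc, hact', ← Category.assoc,
          (t.obj c).act.mul_act, tensor_whiskerLeft]
        simp only [Category.assoc, Iso.inv_hom_id_assoc]
        rw [← MonoidalCategory.whiskerLeft_comp_assoc, hact', MonoidalCategory.whiskerLeft_comp,
          Category.assoc, hact'] }
  have hw : act ≫ p = snd G P ≫ p := (tensorFam 𝒬 G).desc_ext hG fun c => by
    show (G ◁ q c) ≫ act ≫ p = (G ◁ q c) ≫ snd G P ≫ p
    rw [reassoc_of% hact', (sq c).w, reassoc_of% (datπ_invariant t c), whiskerLeft_snd_assoc, (sq c).w]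
  let F : G ⊗ P ⟶ pullback p p := pullback.lift act (snd G P) hw
  have hF : IsIso F := by
    have sqF : ∀ c, IsPullback ((G ◁ q c) ≫ F) (t.obj c).act.act (pullback.fst p p) (q c) := fun c => by
      refine IsPullback.of_right (h₁₂ := pullback.snd p p) (h₂₂ := p) ?_ ?_
        (IsPullback.of_hasPullback p p).flip
      · rw [Category.assoc, pullback.lift_snd, whiskerLeft_snd, (sq c).w]
        exact (isPullback_dat t c).flip.paste_horiz (sq c)
      · rw [Category.assoc, pullback.lift_fst, hact']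
    refine (tensorFam 𝒬 G).isIso_of_members hG (𝒬.restrict (pullback.fst p p)) F
      (fun c => (sqF c).isoPullback) (fun c => ?_) (fun {a b} g => ?_)
    · exact (sqF c).isoPullback_hom_fst
    · show (G ◁ (t.map g).top) ≫ (sqF b).isoPullback.hom = (sqF a).isoPullback.hom ≫
        pullback.lift (pullback.fst (pullback.fst p p) (q a))
          (pullback.snd (pullback.fst p p) (q a) ≫ (t.map g).top) _
      apply pullback.hom_ext
      · rw [Category.assoc, IsPullback.isoPullback_hom_fst, Category.assoc, pullback.lift_fst,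
          IsPullback.isoPullback_hom_fst, ← MonoidalCategory.whiskerLeft_comp_assoc, nat]
      · rw [Category.assoc, IsPullback.isoPullback_hom_snd, Category.assoc, pullback.lift_snd,
          IsPullback.isoPullback_hom_snd_assoc, (t.map g).eqv]
  have hloc : NonAbH1.IsLocallyTrivialFor K (Over.mk p.left : Over U.left) := by
    have hl : ∀ i, ∃ (L : Type (u + 1)) (Y : L → Scheme.{u}) (g : ∀ l, Y l ⟶ Z i),
        Presieve.ofArrows Y g ∈ K (Z i) ∧
          ∀ l, NonAbH1.HasSectionOver (Over.mk (datπ t (aObj f i)).left : Over (Z i)) (g l) := fun i => by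
      obtain ⟨R, hR, hs⟩ := loc_cast (t.obj (aObj f i)) (t.w_obj (aObj f i))
      obtain ⟨L, Y, g, rfl⟩ := R.exists_eq_ofArrows
      exact ⟨L, Y, g, hR, fun l => hs (g l) ⟨l⟩⟩
    choose L Y g hg hs using hl
    refine ⟨_, Precoverage.comp_mem_coverings f hf g hg, ?_⟩
    rintro _ _ ⟨⟨i, l⟩⟩
    obtain ⟨s, hs'⟩ := hs i l
    simp only [Over.mk_hom] at hs'
    refine ⟨s ≫ (q (aObj f i)).left, ?_⟩
    show (s ≫ (q (aObj f i)).left) ≫ p.left = g i l ≫ f i
    rw [Category.assoc, ← Over.comp_left, (sq (aObj f i)).w, ← hs', Category.assoc]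
    rfl
  let A : QuotObj K G aX :=
    { base := U
      P := P
      act := a
      π := p
      cart := by
        haveI := hF
        exact IsPullback.of_iso_pullback ⟨hw⟩ (asIso F) (pullback.lift_fst _ _ _) (pullback.lift_snd _ _ _)
      loc := hloc
      φ := φ
      eqv := (tensorFam 𝒬 G).desc_ext hG fun c => by
        show (G ◁ q c) ≫ act ≫ φ = (G ◁ q c) ≫ (G ◁ φ) ≫ aX.act
        rw [reassoc_of% hact', hφ', ← MonoidalCategory.whiskerLeft_comp_assoc, hφ']
        exact (t.obj c).eqv }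
  let θ : ∀ c, t.obj c ⟶ A := fun c =>
    { base := eqToHom (t.w_obj c) ≫ c.obj.hom
      top := q c
      eqv := (hact' c).symm
      cart := by
        refine (sq c).of_iso (Iso.refl _) (Iso.refl _) (eqToIso (t.w_obj c).symm) (Iso.refl _) ?_ ?_ ?_ ?_
        · simp
        · simp [datπ]
        · simp; rfl
        · simp
      wφ := hφ' c }
  have hl : ∀ c, (QuotSt K G aX).p.IsHomLift c.obj.hom (θ c) := fun c =>
    IsHomLift.of_fac' (QuotSt K G aX).p _ _ (t.w_obj c) rfl (by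
      show eqToHom (t.w_obj c) ≫ c.obj.hom = _
      simp)
  refine ⟨⟨A, rfl, θ, hl, fun {a b} g => QuotObj.hom_ext ?_ (nat g)⟩⟩
  haveI := hl a; haveI := hl b
  haveI : (Stk.sieveCat (famSieve f)).p.IsHomLift g.hom.left g :=
    IsHomLift.map (Stk.sieveCat (famSieve f)).p g
  haveI := BasedFunctor.preserves_isHomLift t g.hom.left g
  haveI : (QuotSt K G aX).p.IsHomLift a.obj.hom (t.map g ≫ θ b) := by
    rw [← Over.w g.hom]
    exact inferInstanceAs ((QuotSt K G aX).p.IsHomLift (g.hom.left ≫ b.obj.hom) (t.map g ≫ θ b))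
  exact base_eq_of_lift a.obj.hom _ _

end Family

end Groth.Agent.Quot16
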