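import Groth.Agent.Lib.Quot16.Local
import Groth.Agent.Lib.Quot16.Chart
import Groth.Agent.Lib.FC16.StackPsh
import Groth.Prelude.Def_AlgSp
import Groth.Prelude.Def_StCoarse
import Groth.Prelude.Def_W4bk4git07Quot
import Groth.Agent.Lib.StAlg.Psh

/-! Invariant maps out of `X` factor uniquely through `[X/G]`. -/

universe u

open CategoryTheory CategoryTheory.Limits MonoidalCategory CartesianMonoidalCategory MonObj GrpObj
  AlgebraicGeometry Opposite

set_option linter.style.haveILetI false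
set_option linter.unusedSectionVars false
set_option backward.isDefEq.respectTransparency false
set_option backward.isDefEq.respectTransparency.types false

namespace Groth.Agent.Quot16

open AlgSt
open FC16 hiding overMap

variable {S : Scheme.{u}} {G : Over S} [GrpObj G] {X : Over S} {aX : AlgGrp.Action G X}

theorem isSheafFor_singleton_π [Flat G.hom] [LocallyOfFinitePresentation G.hom] (M : AlgSp.Sp S)
    (A : QuotObj Scheme.fppfPrecoverage G aX) :
    Presieve.IsSheafFor M.obj (Presieve.singleton A.π) := by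
  haveI := π_flat A
  haveI := π_lfp A
  haveI := π_surjective A
  rw [Presieve.isSheafFor_iff_generate]
  refine ((isSheaf_iff_isSheaf_of_type _ _).1 M.property) _ ?_
  show Sieve.overEquiv A.base (Sieve.generate (Presieve.singleton A.π)) ∈
    Scheme.fppfPrecoverage.toGrothendieck A.base.left
  refine GrothendieckTopology.superset_covering _ ?_
    (Precoverage.generate_mem_toGrothendieck A.π.left.singleton_mem_fppfPrecoverage)
  rw [Sieve.generate_le_iff]
  rintro _ _ ⟨⟩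
  refine (Sieve.overEquiv_iff _ A.π.left).2 ?_
  refine ⟨A.P, Over.homMk (𝟙 _) ((Category.id_comp _).trans (Over.w A.π).symm), A.π,
    Presieve.singleton_self _, ?_⟩
  exact Over.OverMorphism.ext (Category.id_comp A.π.left)

lemma map_map {M : AlgSp.Sp S} {A B C : Over S} (f : B ⟶ A) (g : C ⟶ B) (x : M.obj.obj (op A)) :
    M.obj.map g.op (M.obj.map f.op x) = M.obj.map (g ≫ f).op x := by
  rw [op_comp, Functor.map_comp_apply]

lemma ofPsh_functor_ext {𝒜 : BasedCategory.{u, u + 1} (Over S)} {M : AlgSp.Sp S}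
    (φ ψ : 𝒜 ⥤ᵇ ofSp M) (h : ∀ a, pval φ a = pval ψ a) : φ = ψ := by
  have key : ∀ (T : Over S) (p q : (ofSp M).obj) (h1 : p.base = T) (h2 : q.base = T),
      M.obj.map (eqToHom h1.symm).op p.sec = M.obj.map (eqToHom h2.symm).op q.sec → p = q := by
    rintro T ⟨b, s⟩ ⟨b', s'⟩ h1 h2 h3
    change b = T at h1
    change b' = T at h2
    subst h1 h2
    simp only [eqToHom_refl, op_id, Functor.map_id_apply] at h3
    rw [h3]
  have hobj : ∀ a, φ.obj a = ψ.obj a := fun a =>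
    key (𝒜.p.obj a) _ _ (φ.w_obj a) (ψ.w_obj a) (h a)
  refine basedFunctor_ext (CategoryTheory.Functor.ext hobj fun a b g => ?_)
  apply Stk.EltObj.hom_ext
  have h1 : (φ.map g).hom = eqToHom (φ.w_obj a) ≫ 𝒜.p.map g ≫ eqToHom (φ.w_obj b).symm :=
    Functor.congr_hom φ.w g
  have h2 : (ψ.map g).hom = eqToHom (ψ.w_obj a) ≫ 𝒜.p.map g ≫ eqToHom (ψ.w_obj b).symm :=
    Functor.congr_hom ψ.w g
  show (φ.map g).hom = (ofSp M).p.map (eqToHom (hobj a) ≫ ψ.map g ≫ eqToHom (hobj b).symm)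
  rw [Functor.map_comp, Functor.map_comp, eqToHom_map, eqToHom_map]
  show (φ.map g).hom = eqToHom _ ≫ (ψ.map g).hom ≫ eqToHom _
  rw [h1, h2]
  simp

theorem existsUnique_factor [Flat G.hom] [LocallyOfFinitePresentation G.hom] (M : AlgSp.Sp S)
    (f : (AlgSp.yon S).obj X ⟶ M)
    (hf : (AlgSp.yon S).map aX.act ≫ f = (AlgSp.yon S).map (snd G X) ≫ f) :
    ∃! φ : QuotSt Scheme.fppfPrecoverage G aX ⥤ᵇ ofSp M,
      BasedFunctor.comp (quotMap Scheme.fppfPrecoverage G aX) φ = ofSpMap f := by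
  obtain ⟨x₀, hx₀⟩ : ∃ x₀ : M.obj.obj (op X), x₀ = f.hom.app (op X) ⟨𝟙 X⟩ := ⟨_, rfl⟩
  have fval : ∀ {T : Over S} (σ : T ⟶ X), f.hom.app (op T) ⟨σ⟩ = M.obj.map σ.op x₀ := fun {T} σ => by
    have := NatTrans.naturality_apply f.hom σ.op (⟨𝟙 X⟩ : ((AlgSp.yon S).obj X).obj.obj (op X))
    rw [hx₀, ← this]
    congr 1
  have hinv : M.obj.map aX.act.op x₀ = M.obj.map (snd G X).op x₀ := by
    rw [← fval, ← fval]
    have := congrArg (fun q => q.hom.app (op (G ⊗ X)) (⟨𝟙 _⟩ : ((AlgSp.yon S).obj (G ⊗ X)).obj.obj (op (G ⊗ X)))) hf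
    refine Eq.trans ?_ (this.trans ?_)
    · show _ = f.hom.app _ ⟨𝟙 _ ≫ aX.act⟩
      rw [Category.id_comp]
    · show f.hom.app _ ⟨𝟙 _ ≫ snd G X⟩ = _
      rw [Category.id_comp]
  have val : ∀ A : QuotObj Scheme.fppfPrecoverage G aX,
      ∃! y : M.obj.obj (op A.base), M.obj.map A.π.op y = M.obj.map A.φ.op x₀ := fun A => by
    refine Presieve.isSheafFor_singleton.1 (isSheafFor_singleton_π M A) _ fun {Z} p₁ p₂ hp => ?_
    have h : ∃ w : Z ⟶ G ⊗ A.P, w ≫ A.act.act = p₁ ∧ w ≫ snd G A.P = p₂ :=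
      ⟨A.cart.lift p₁ p₂ hp, A.cart.lift_fst _ _ _, A.cart.lift_snd _ _ _⟩
    obtain ⟨w, rfl, rfl⟩ := h
    rw [map_map, map_map, Category.assoc, Category.assoc, A.eqv]
    have e1 : w ≫ (G ◁ A.φ) ≫ aX.act = (w ≫ (G ◁ A.φ)) ≫ aX.act := (Category.assoc _ _ _).symm
    have e2 : w ≫ snd G A.P ≫ A.φ = (w ≫ (G ◁ A.φ)) ≫ snd G X := by
      rw [Category.assoc, whiskerLeft_snd]
    rw [e1, e2, ← map_map, ← map_map, hinv, map_map, map_map, Category.assoc]
  choose v hv hvu using val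
  have hnat : ∀ {A B : QuotObj Scheme.fppfPrecoverage G aX} (g : A ⟶ B),
      M.obj.map g.base.op (v B) = v A := fun {A B} g => by
    apply hvu
    rw [map_map, ← g.cart.w, ← map_map, hv, map_map, g.wφ]
  let Φ : QuotSt Scheme.fppfPrecoverage G aX ⥤ᵇ ofSp M :=
    ofFamily (P := M.obj) (fun A => v A) (fun g => hnat g)
  have hΦ : ∀ z : (ofSch X).obj, v ((quotMap Scheme.fppfPrecoverage G aX).obj z) = f.hom.app (op z.base) z.sec := by
    intro z
    symm
    refine hvu ((quotMap Scheme.fppfPrecoverage G aX).obj z) _ ?_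
    refine (congrArg _ (fval z.sec.down)).trans ?_
    refine (map_map z.sec.down (snd G z.base) x₀).trans ?_
    show M.obj.map (snd G z.base ≫ z.sec.down).op x₀ = M.obj.map ((G ◁ z.sec.down) ≫ aX.act).op x₀
    rw [← whiskerLeft_snd, ← map_map, ← map_map, hinv]
  refine ⟨Φ, ofPsh_functor_ext _ _ fun z => ?_, fun ψ hψ => ?_⟩
  · exact congrArg (M.obj.map (eqToHom rfl).op) (hΦ z)
  · refine ofPsh_functor_ext _ _ fun A => ?_
    rw [pval_ofFamily]
    apply hvu
    let h := homC A (Over.mk A.φ) (𝟙 A.P) (Category.id_comp _)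
    have e := pval_nat ψ h
    have hb : h.base = A.π := by
      have hl : (QuotSt Scheme.fppfPrecoverage G aX).p.IsHomLift (𝟙 A.P ≫ A.π) h := homC_lift A (Over.mk A.φ) (𝟙 A.P) (Category.id_comp _)
      rw [Category.id_comp] at hl
      exact base_eq_of_lift_self (h := hl) _ h
    rw [← hb]
    refine e.trans ?_
    have e2 : pval ψ ((quotMap Scheme.fppfPrecoverage G aX).obj ((ofOverCat X).obj (Over.mk A.φ))) =
        pval (BasedFunctor.comp (quotMap Scheme.fppfPrecoverage G aX) ψ) ((ofOverCat X).obj (Over.mk A.φ)) := rfl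
    rw [show pval ψ ((chartMap Scheme.fppfPrecoverage aX).obj (Over.mk A.φ)) = _ from e2, hψ]
    show M.obj.map (eqToHom rfl).op (f.hom.app (op A.P) ⟨A.φ⟩) = _
    rw [fval, eqToHom_refl, op_id, Functor.map_id_apply]

end Groth.Agent.Quot16

namespace Groth.Agent.Quot16

open AlgSt
open FC16 hiding overMap

variable {S : Scheme.{u}} {G : Over S} [GrpObj G] {X : Over S} {aX : AlgGrp.Action G X}

lemma eq_of_iso {𝒜 : BasedCategory.{u, u + 1} (Over S)} {M : AlgSp.Sp S} {φ ψ : 𝒜 ⥤ᵇ ofSp M}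
    (i : φ ≅ ψ) : φ = ψ :=
  ofPsh_functor_ext _ _ fun a => pval_hom i.hom a

/-- a map of `X` which factors through `[X/G]` is invariant -/
theorem invariant_of_factor {M : AlgSp.Sp S} (φ : QuotSt Scheme.fppfPrecoverage G aX ⥤ᵇ ofSp M)
    (f : (AlgSp.yon S).obj X ⟶ M) (h : BasedFunctor.comp (quotMap Scheme.fppfPrecoverage G aX) φ = ofSpMap f) :
    (AlgSp.yon S).map aX.act ≫ f = (AlgSp.yon S).map (snd G X) ≫ f := by
  apply ObjectProperty.hom_ext
  ext T x
  obtain ⟨w⟩ := x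
  let σ : T.unop ⟶ G ⊗ T.unop := lift (w ≫ fst G X) (𝟙 _)
  have hσ : σ ≫ (G ◁ (w ≫ snd G X)) ≫ aX.act = w ≫ aX.act := by
    rw [← Category.assoc]; congr 1
    apply CartesianMonoidalCategory.hom_ext <;> simp [σ]
  let a₁ : Over X := Over.mk (w ≫ aX.act)
  let a₂ : Over X := Over.mk (w ≫ snd G X)
  let A₂ := (chartMap Scheme.fppfPrecoverage aX).obj a₂
  let m := homC A₂ a₁ σ hσ
  have hb : m.base = 𝟙 T.unop := by
    have hl : (QuotSt Scheme.fppfPrecoverage G aX).p.IsHomLift (σ ≫ A₂.π) m := homC_lift A₂ a₁ σ hσ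
    rw [show σ ≫ A₂.π = 𝟙 T.unop from lift_snd _ _] at hl
    exact base_eq_of_lift_self (h := hl) _ m
  have e := pval_nat φ m
  have v : ∀ a : Over X, pval φ ((chartMap Scheme.fppfPrecoverage aX).obj a) = f.hom.app (op a.left) ⟨a.hom⟩ := by
    intro a
    have h' := congrArg (fun Φ => pval Φ ((ofOverCat X).obj a)) h
    refine Eq.trans ?_ (h'.trans ?_)
    · rfl
    · show M.obj.map (eqToHom rfl).op (f.hom.app (op a.left) ⟨a.hom⟩) = _
      rw [eqToHom_refl, op_id, Functor.map_id_apply]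
  rw [v, v] at e
  show f.hom.app T ⟨w ≫ aX.act⟩ = f.hom.app T ⟨w ≫ snd G X⟩
  refine e.symm.trans ?_
  show M.obj.map m.base.op _ = _
  rw [hb]
  erw [op_id, Functor.map_id_apply]
  rfl

theorem isCatModuliSch_iff [Flat G.hom] [LocallyOfFinitePresentation G.hom] {Y : Over S} (f : X ⟶ Y)
    (π : QuotSt Scheme.fppfPrecoverage G aX ⥤ᵇ ofSch Y)
    (hπ : Nonempty (BasedFunctor.comp (quotMap Scheme.fppfPrecoverage G aX) π ≅ ofSpMap ((AlgSp.yon S).map f))) :
    IsCatModuliSch π ↔ GIT.IsCatQuot aX f := by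
  obtain ⟨iπ⟩ := hπ
  have hπ := eq_of_iso iπ
  have hinv : aX.act ≫ f = snd G X ≫ f := (AlgSp.yon S).map_injective (by
    rw [Functor.map_comp, Functor.map_comp]; exact invariant_of_factor π _ hπ)
  have hYrep : ∀ Z : Over S, ((AlgSp.yon S).obj Z).obj.IsRepresentable := fun Z =>
    ⟨Z, ⟨{ homEquiv := fun {_} => Equiv.ulift.symm, homEquiv_comp := fun _ _ => rfl }⟩⟩
  have comp : ∀ {N : AlgSp.Sp S} (g : (AlgSp.yon S).obj Y ⟶ N),
      BasedFunctor.comp (quotMap Scheme.fppfPrecoverage G aX) (BasedFunctor.comp π (ofSpMap g)) =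
        ofSpMap ((AlgSp.yon S).map f ≫ g) := fun {N} g => by
    refine Eq.trans (b := BasedFunctor.comp (BasedFunctor.comp (quotMap Scheme.fppfPrecoverage G aX) π) (ofSpMap g))
      rfl ?_
    rw [hπ]
    rfl
  have inj : ∀ {N : AlgSp.Sp S} {a b : (AlgSp.yon S).obj X ⟶ N}, ofSpMap a = ofSpMap b → a = b := by
    intro N a b h
    apply ObjectProperty.hom_ext
    have := congrArg StAlg.mapOf h
    rwa [StAlg.mapOf_ofPshMap, StAlg.mapOf_ofPshMap] at this
  constructor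
  · intro hM
    refine ⟨hinv, fun Z ψ hψ => ?_⟩
    have hψ' : (AlgSp.yon S).map aX.act ≫ (AlgSp.yon S).map ψ =
        (AlgSp.yon S).map (snd G X) ≫ (AlgSp.yon S).map ψ := by
      rw [← Functor.map_comp, ← Functor.map_comp, hψ]
    obtain ⟨φ, hφ, hφu⟩ := existsUnique_factor _ ((AlgSp.yon S).map ψ) hψ'
    obtain ⟨g, hg, hgu⟩ := hM.2 _ (hYrep Z) φ
    obtain ⟨χ, hχ⟩ := (AlgSp.yon S).map_surjective g
    obtain ⟨ig⟩ := hg
    refine ⟨χ, (AlgSp.yon S).map_injective (inj ?_), fun χ' hχ' => (AlgSp.yon S).map_injective ?_⟩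
    · rw [Functor.map_comp, hχ, ← comp g, eq_of_iso ig, hφ]
    · rw [hχ]
      refine hgu _ ⟨eqToIso (hφu _ ?_)⟩
      show BasedFunctor.comp (quotMap Scheme.fppfPrecoverage G aX)
        (BasedFunctor.comp π (ofSpMap ((AlgSp.yon S).map χ'))) = _
      rw [comp, ← Functor.map_comp, hχ']
  · rintro ⟨-, hQ⟩
    refine ⟨hYrep Y, fun N hN φ => ?_⟩
    obtain ⟨Z, ⟨R⟩⟩ := hN
    let e : (AlgSp.yon S).obj Z ≅ N := ObjectProperty.isoMk _ (NatIso.ofComponents
      (fun T => (Equiv.ulift.trans R.homEquiv).toIso) (fun {T T'} g => by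
        ext x
        exact R.homEquiv_comp g.unop x.down))
    let f' : (AlgSp.yon S).obj X ⟶ N :=
      ObjectProperty.homMk (StAlg.mapOf (BasedFunctor.comp (quotMap Scheme.fppfPrecoverage G aX) φ))
    have hf' : BasedFunctor.comp (quotMap Scheme.fppfPrecoverage G aX) φ = ofSpMap f' :=
      eq_of_iso (StAlg.isoMapOf _)
    have hinv' := invariant_of_factor φ f' hf'
    obtain ⟨ψ, hψ⟩ := (AlgSp.yon S).map_surjective (f' ≫ e.inv)
    have hψinv : GIT.IsInvariant aX ψ := (AlgSp.yon S).map_injective (by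
      rw [Functor.map_comp, Functor.map_comp, hψ, ← Category.assoc, ← Category.assoc, hinv'])
    obtain ⟨χ, hχ, hχu⟩ := hQ Z ψ hψinv
    obtain ⟨φ₀, hφ₀, hu⟩ := existsUnique_factor N f' hinv'
    refine ⟨(AlgSp.yon S).map χ ≫ e.hom, ⟨eqToIso ?_⟩, fun g hg => ?_⟩
    · refine (hu _ ?_).trans (hu φ hf').symm
      show BasedFunctor.comp (quotMap Scheme.fppfPrecoverage G aX)
        (BasedFunctor.comp π (ofSpMap ((AlgSp.yon S).map χ ≫ e.hom))) = _
      rw [comp, ← Category.assoc, ← Functor.map_comp, hχ, hψ, Category.assoc, e.inv_hom_id, Category.comp_id]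
    · obtain ⟨ig⟩ := hg
      obtain ⟨χ', hχ'⟩ := (AlgSp.yon S).map_surjective (g ≫ e.inv)
      have hg' : g = (AlgSp.yon S).map χ' ≫ e.hom := by rw [hχ', Category.assoc, e.inv_hom_id, Category.comp_id]
      have e1 : ofSpMap ((AlgSp.yon S).map f ≫ g) = ofSpMap f' := by
        rw [← comp g, eq_of_iso ig, hf']
      rw [hg']
      congr 2
      refine hχu χ' ((AlgSp.yon S).map_injective ?_)
      rw [Functor.map_comp, hχ', hψ, ← Category.assoc, inj e1]

end Groth.Agent.Quot16
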