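import Groth.Agent.Lib.Quot16.Chart
import Groth.Agent.Lib.Quot16.Cocone
import Groth.Agent.Lib.Quot16.Glue

/-! Morphisms of torsors glue: `[X/G]` is a prestack. -/

universe u

open CategoryTheory CategoryTheory.Limits MonoidalCategory CartesianMonoidalCategory MonObj GrpObj
  AlgebraicGeometry

set_option linter.style.haveILetI false
set_option linter.unusedSectionVars false
set_option backward.isDefEq.respectTransparency false
set_option backward.isDefEq.respectTransparency.types false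

namespace Groth.Agent.Quot16

open AlgSt

variable {S : Scheme.{u}} {K : Precoverage Scheme.{u}} {G : Over S} [GrpObj G] {X : Over S}
  {aX : AlgGrp.Action G X}

lemma sq_of_lift {A B : QuotObj K G aX} {V W : Over S} (hA : A.base = V) (hB : B.base = W) (f : V ⟶ W)
    (φ : A ⟶ B) [h : (QuotSt K G aX).p.IsHomLift f φ] :
    IsPullback φ.top (A.π ≫ eqToHom hA) (B.π ≫ eqToHom hB) f := by
  subst hA hB
  simpa [base_eq_of_lift_self f φ] using φ.cart

variable {U : Over S} {R : Sieve U} (t : Stk.sieveCat R ⥤ᵇ QuotSt K G aX)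

/-- the projection of a member of a descent datum -/
noncomputable def datπ (c : Ix R) : (t.obj c).P ⟶ c.obj.left := (t.obj c).π ≫ eqToHom (t.w_obj c)

lemma datπ_invariant (c : Ix R) :
    (t.obj c).act.act ≫ datπ t c = snd G _ ≫ datπ t c := by
  rw [datπ, ← Category.assoc, act_π, Category.assoc]

lemma isPullback_dat (c : Ix R) :
    IsPullback (t.obj c).act.act (snd G (t.obj c).P) (datπ t c) (datπ t c) := by
  refine (t.obj c).cart.of_iso (Iso.refl _) (Iso.refl _) (Iso.refl _) (eqToIso (t.w_obj c)) ?_ ?_ ?_ ?_ <;>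
    simp [datπ]

lemma sq_map {a b : Ix R} (g : a ⟶ b) :
    IsPullback (t.map g).top (datπ t a) (datπ t b) g.hom.left := by
  haveI : (Stk.sieveCat R).p.IsHomLift g.hom.left g := IsHomLift.map (Stk.sieveCat R).p g
  haveI := BasedFunctor.preserves_isHomLift t g.hom.left g
  exact sq_of_lift (t.w_obj a) (t.w_obj b) g.hom.left (t.map g)

/-- the cartesian family of a cocone -/
noncomputable def coconeFam (s : Cocone t) : CartFam R s.pt.P (s.pt.π ≫ eqToHom s.over) where
  Q c := (t.obj c).P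
  π c := datπ t c
  tr g := (t.map g).top
  tr_π g := (sq_map t g).w
  q c := (s.θ c).top
  nat g := congrArg QuotObj.Hom.top (s.nat g)
  sq c := @sq_of_lift _ _ _ _ _ _ _ _ _ _ (t.w_obj c) s.over c.obj.hom (s.θ c) (s.lift c)

/-- the cartesian family obtained by tensoring with `G` -/
noncomputable def tensorFam {P : Over S} {p : P ⟶ U} (𝒬 : CartFam R P p) (W : Over S) :
    CartFam R (W ⊗ P) (snd W P ≫ p) where
  Q c := W ⊗ 𝒬.Q c
  π c := snd W (𝒬.Q c) ≫ 𝒬.π c
  tr g := W ◁ 𝒬.tr g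
  tr_π g := by rw [whiskerLeft_snd_assoc, Category.assoc, 𝒬.tr_π]
  q c := W ◁ 𝒬.q c
  nat g := by rw [← MonoidalCategory.whiskerLeft_comp, 𝒬.nat]
  sq c := (isPullback_whiskerLeft (G := W) (𝒬.q c)).paste_vert (𝒬.sq c)

theorem gluesHom (hR : Glues R) : GluesHom R (QuotSt K G aX) := by
  intro t s s'
  have mk : ∀ s s' : Cocone t, ∃ χ : s.pt.P ⟶ s'.pt.P, ∀ c, (s.θ c).top ≫ χ = (s'.θ c).top :=
    fun s s' => (coconeFam t s).exists_desc hR (fun c => (s'.θ c).top)
      (fun g => congrArg QuotObj.Hom.top (s'.nat g))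
  obtain ⟨χ, hχ⟩ := mk s s'
  obtain ⟨χ', hχ'⟩ := mk s' s
  have i1 : χ ≫ χ' = 𝟙 _ := (coconeFam t s).desc_ext hR fun c => by
    show (s.θ c).top ≫ χ ≫ χ' = (s.θ c).top ≫ 𝟙 _
    rw [reassoc_of% hχ, hχ', Category.comp_id]
  have i2 : χ' ≫ χ = 𝟙 _ := (coconeFam t s').desc_ext hR fun c => by
    show (s'.θ c).top ≫ χ' ≫ χ = (s'.θ c).top ≫ 𝟙 _
    rw [reassoc_of% hχ', hχ, Category.comp_id]
  haveI : IsIso χ := ⟨χ', i1, i2⟩
  have hπ : χ ≫ s'.pt.π ≫ eqToHom s'.over = s.pt.π ≫ eqToHom s.over :=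
    (coconeFam t s).desc_ext hR fun c => by
      show (s.θ c).top ≫ χ ≫ s'.pt.π ≫ eqToHom s'.over = (s.θ c).top ≫ s.pt.π ≫ eqToHom s.over
      rw [reassoc_of% hχ]
      exact ((coconeFam t s').sq c).w.trans ((coconeFam t s).sq c).w.symm
  have hb : s.pt.base = s'.pt.base := s.over.trans s'.over.symm
  let Χ : s.pt ⟶ s'.pt :=
    { base := eqToHom hb
      top := χ
      eqv := (tensorFam (coconeFam t s) G).desc_ext hR fun c => by
        show (G ◁ (s.θ c).top) ≫ s.pt.act.act ≫ χ = (G ◁ (s.θ c).top) ≫ (G ◁ χ) ≫ s'.pt.act.act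
        rw [← Category.assoc, ← (s.θ c).eqv, Category.assoc, hχ, ← Category.assoc,
          ← MonoidalCategory.whiskerLeft_comp, hχ]
        exact (s'.θ c).eqv
      cart := IsPullback.of_horiz_isIso ⟨by
        rw [← cancel_mono (eqToHom s'.over), Category.assoc, hπ, Category.assoc, eqToHom_trans]⟩
      wφ := (coconeFam t s).desc_ext hR fun c => by
        show (s.θ c).top ≫ χ ≫ s'.pt.φ = (s.θ c).top ≫ s.pt.φ
        rw [reassoc_of% hχ, (s'.θ c).wφ, (s.θ c).wφ] }
  refine ⟨Χ, ⟨?_, fun c => ?_⟩, ?_⟩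
  · exact IsHomLift.of_fac' (QuotSt K G aX).p _ _ s.over s'.over (by show eqToHom hb = _; simp)
  · refine QuotObj.hom_ext ?_ (hχ c)
    haveI := s.lift c; haveI := s'.lift c
    have e1 := IsHomLift.fac' (QuotSt K G aX).p c.obj.hom (s.θ c)
    have e2 := IsHomLift.fac' (QuotSt K G aX).p c.obj.hom (s'.θ c)
    show (s.θ c).base ≫ eqToHom hb = (s'.θ c).base
    refine (congrArg (fun q => q ≫ eqToHom hb) e1).trans (Eq.trans ?_ e2.symm)
    simp
  · rintro Ψ ⟨hl, hθ⟩
    refine QuotObj.hom_ext ?_ ((coconeFam t s).desc_ext hR fun c => ?_)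
    · exact (IsHomLift.fac' (QuotSt K G aX).p (𝟙 U) Ψ).trans (by show _ = eqToHom hb; simp)
    · show (s.θ c).top ≫ Ψ.top = (s.θ c).top ≫ χ
      rw [hχ]
      exact congrArg QuotObj.Hom.top (hθ c)

theorem isPrestackFor [K.HasIsos] [K.IsStableUnderBaseChange] (hR : Glues R) :
    Stk.IsPrestackFor R (QuotSt K G aX) :=
  isPrestackFor_of isFibGrpd (gluesHom hR)

end Groth.Agent.Quot16
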